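import Cfsg.Agent.SmallExtra438.Model

/-!
# A decidable model of `C_G(z)` in the case `9aa` of S1759 (helper438)

Elements of `C_G(z)` (order 1152) are coded by `m < 1152`, `m = x + 32 K`, `x < 32` an element of `Q`
(bits `0..3` = `i, j, k, l`, bit `4` = `z`), `K = a + 3 b + 9 c + 18 e < 36` the element `x₁ ^ a x₂ ^ b y ^ c s ^ e`;
`mm t` is the multiplication, `t < 8` is the twist: `y² = z ^ (t % 2)`, `s² = z ^ (t / 2 % 2)`,
`s y s⁻¹ = y z ^ (t / 4 % 2)`.
-/

set_option autoImplicit false

namespace Cfsg.Agent.SmallExtra438.ModelA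

open Cfsg.Agent.LargeExtra.Model Cfsg.Agent.LargeExtra.Pres Cfsg.Agent.LargeExtra.Models
open Cfsg.Agent.LargeExtra.W2 Cfsg.Agent.SmallExtra438.Model

def Ty : ℕ := 582580717714439745947200

def TA : ℕ := 302065450993013224575693870587073093097124071610683663983510451780157142620322316998209865774122593152859894238913345406596352355835041158274447104334965875452913223981068109202191030259460217989326003852920185352710064015609307124849560902674695416711992607133910721611982406115963375750610508958999183156108171809191920781936374755016926022058414186226249550866032385861157960596979164653345078904992962326021296190095404959966436361689932346120314522804168744331798645836016501913621266473213462096721098002183187813012503484135536429826853743960465258238275210708653197513790109632017685397766698068430710957844063037928123673709587038969114559917020729313381981028176438619261177341526181213620355824448649809997240012944470829783608128828219016252050156913304206287308804428737158824146097002762347605610843541148249504985899353415319666391820080636244233652256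

/-- the action of `x₁ ^ a x₂ ^ b y ^ c s ^ e` on `Q` -/
def act (K x : ℕ) : ℕ := ((TA >>> (80 * K + 5 * (x % 16))) % 32) ^^^ (x &&& 16)

/-- multiplication of the `x₁ ^ a x₂ ^ b y ^ c s ^ e` (modulo `z`) -/
def km (n m : ℕ) : ℕ :=
  (n % 3 + (if n / 18 = 0 then m % 3 else m / 3 % 3) * (1 + n / 9 % 2)) % 3 +
    3 * ((n / 3 % 3 + (if n / 18 = 0 then m / 3 % 3 else m % 3) * (1 + n / 9 % 2)) % 3) +
    9 * ((n / 9 % 2 + m / 9 % 2) % 2) + 18 * ((n / 18 + m / 18) % 2)

/-- the twist -/
def tw (t n m : ℕ) : ℕ :=
  (t % 2 * (n / 9 % 2 * (m / 9 % 2)) + t / 2 % 2 * (n / 18 * (m / 18)) +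
    t / 4 % 2 * (n / 18 * (m / 9 % 2))) % 2

/-- multiplication of the model -/
def mm (t m n : ℕ) : ℕ :=
  ((qm (m % 32) (act (m / 32) (n % 32))) ^^^ (16 * tw t (m / 32) (n / 32))) + 32 * km (m / 32) (n / 32)

theorem act_lt : ∀ k < 36, ∀ x < 32, act k x < 32 := by decide +kernel

theorem act_eq : ∀ k < 36, ∀ x < 32, act k x =
    (app T1)^[k % 3] ((app T2)^[k / 3 % 3] ((app Ty)^[k / 9 % 2] ((app Ts)^[k / 18] x))) := by decide +kernel

theorem app_lt : ∀ x < 32, app T1 x < 32 ∧ app T2 x < 32 ∧ app Ty x < 32 ∧ app Ts x < 32 := by decide +kernel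

/-- images of the generators under `y` -/
def Iy : ℕ → XG rP4 4 := fun n => toX ([18, 17, 24, 20].getD n 0)

theorem goody : Good rP4 4 Iy := by decide +kernel

theorem lifty : ∀ x < 32, lift goody.rels tri_P4 (toX x) = toX (app Ty x) := by decide +kernel

theorem km_lt : ∀ n < 36, ∀ m < 36, km n m < 36 := by decide +kernel

theorem tw_lt (t n m : ℕ) : tw t n m < 2 := Nat.mod_lt _ (by norm_num)

theorem xor_tw : ∀ x < 32, ∀ w < 2, x ^^^ (16 * w) < 32 ∧ qm x (16 * w) = x ^^^ (16 * w) ∧
    qm (16 * w) x = x ^^^ (16 * w) := by decide +kernel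

theorem mm_lt {t m n : ℕ} (hm : m < 1152) (hn : n < 1152) : mm t m n < 1152 := by
  have h1 := act_lt (m / 32) (by omega) (n % 32) (by omega)
  have h2 := qm_lt (m % 32) (by omega) _ h1
  have h3 := (xor_tw _ h2 (tw t (m / 32) (n / 32)) (tw_lt _ _ _)).1
  have h4 := km_lt (m / 32) (by omega) (n / 32) (by omega)
  unfold mm
  omega

end Cfsg.Agent.SmallExtra438.ModelA
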