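import Cfsg.Agent.SmallExtra438.Frame
import Cfsg.Agent.SmallExtra438.ModelA

/-!
# Coordinates of `C_G(z)` in the case `9aa` of S1759 (helper438)

`F z i j k l x₁ x₂ y s m` is the element of `C_G(z)` with code `m < 1152`; see `ModelA.lean` for the codes and the
twists `t < 8`.
-/

set_option autoImplicit false

namespace Cfsg.Agent.SmallExtra438.FrameA

open Cfsg.Agent.LargeExtra.Model Cfsg.Agent.LargeExtra.Pres Cfsg.Agent.LargeExtra.Models
open Cfsg.Agent.LargeExtra.W2 Cfsg.Agent.SmallExtra438.ModelA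
open Cfsg.Agent.SmallExtra438.Model (qm app T1 T2 Ts rP4 tri_P4 toX toX_qm qm_lt I1 I2 Is good1 good2 goods
  lift1 lift2 lifts toX_surj)
open Cfsg.Agent.SmallExtra438.Frame (gn L rels L_eq L_mul L_bits L_0 L_16 L_1 L_2 L_4 L_8 L_3 L_12 L_5 L_10
  L_15 conj_L conj_pow_aux pow_mod_three)

section

variable {G : Type*} [Group G] {Q : Subgroup G} {z i j k l x₁ x₂ y s : G}

/-- `x₁ ^ a x₂ ^ b y ^ c s ^ e` -/
def kap (x₁ x₂ y s : G) (n : ℕ) : G := x₁ ^ (n % 3) * x₂ ^ (n / 3 % 3) * y ^ (n / 9 % 2) * s ^ (n / 18)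

/-- the element of `C_G(z)` with code `m` -/
def F (z i j k l x₁ x₂ y s : G) (m : ℕ) : G := L z i j k l (m % 32) * kap x₁ x₂ y s (m / 32)

/-- the twist -/
structure Tw (t : ℕ) (z y s : G) : Prop where
  yy : y * y = z ^ (t % 2)
  ss : s * s = z ^ (t / 2 % 2)
  sy : s * y * s⁻¹ = y * z ^ (t / 4 % 2)

theorem tw_zero (h1 : y * y = 1) (h2 : s * s = 1) (h3 : s * y = y * s) : Tw 0 z y s :=
  ⟨by simpa using h1, by simpa using h2, by rw [h3]; simp⟩

theorem exists_tw (h : Case9aa Q z i j k l x₁ x₂ y s) : ∃ t < 8, Tw t z y s := by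
  rcases h.yy with h1 | h1 <;> rcases h.ss with h2 | h2 <;> rcases h.ys with h3 | h3
  · exact ⟨0, by norm_num, by simpa using h1, by simpa using h2, by simpa using h3⟩
  · exact ⟨4, by norm_num, by simpa using h1, by simpa using h2, by simpa using h3⟩
  · exact ⟨2, by norm_num, by simpa using h1, by simpa using h2, by simpa using h3⟩
  · exact ⟨6, by norm_num, by simpa using h1, by simpa using h2, by simpa using h3⟩
  · exact ⟨1, by norm_num, by simpa using h1, by simpa using h2, by simpa using h3⟩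
  · exact ⟨5, by norm_num, by simpa using h1, by simpa using h2, by simpa using h3⟩
  · exact ⟨3, by norm_num, by simpa using h1, by simpa using h2, by simpa using h3⟩
  · exact ⟨7, by norm_num, by simpa using h1, by simpa using h2, by simpa using h3⟩

/-! ### conjugation -/

variable (h : Case9aa Q z i j k l x₁ x₂ y s)

section conj

include h

theorem conj1 {x : ℕ} (hx : x < 32) : x₁ * L z i j k l x = L z i j k l (app T1 x) * x₁ := by
  refine conj_L h.toPlus h.x₁_act.z good1 lift1 (fun n => ?_) hx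
  fin_cases n
  · change x₁ * i * x₁⁻¹ = L z i j k l 2
    rw [L_2]; exact h.x₁_act.i
  · change x₁ * j * x₁⁻¹ = L z i j k l 3
    rw [L_3]; exact h.x₁_act.j
  · change x₁ * k * x₁⁻¹ = L z i j k l 4
    rw [L_4]; exact h.x₁_act.k
  · change x₁ * l * x₁⁻¹ = L z i j k l 8
    rw [L_8]; exact h.x₁_act.l

theorem conj2 {x : ℕ} (hx : x < 32) : x₂ * L z i j k l x = L z i j k l (app T2 x) * x₂ := by
  refine conj_L h.toPlus h.x₂_act.z good2 lift2 (fun n => ?_) hx
  fin_cases n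
  · change x₂ * i * x₂⁻¹ = L z i j k l 1
    rw [L_1]; exact h.x₂_act.i
  · change x₂ * j * x₂⁻¹ = L z i j k l 2
    rw [L_2]; exact h.x₂_act.j
  · change x₂ * k * x₂⁻¹ = L z i j k l 8
    rw [L_8]; exact h.x₂_act.k
  · change x₂ * l * x₂⁻¹ = L z i j k l 12
    rw [L_12]; exact h.x₂_act.l

theorem conjs {x : ℕ} (hx : x < 32) : s * L z i j k l x = L z i j k l (app Ts x) * s := by
  refine conj_L h.toPlus h.s_act.z goods lifts (fun n => ?_) hx
  fin_cases n
  · change s * i * s⁻¹ = L z i j k l 4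
    rw [L_4]; exact h.s_act.i
  · change s * j * s⁻¹ = L z i j k l 8
    rw [L_8]; exact h.s_act.j
  · change s * k * s⁻¹ = L z i j k l 1
    rw [L_1]; exact h.s_act.k
  · change s * l * s⁻¹ = L z i j k l 2
    rw [L_2]; exact h.s_act.l

theorem L_t {x : ℕ} (hx : x < 32) {w : ℕ} (hw : w < 2) :
    L z i j k l (x ^^^ (16 * w)) = L z i j k l x * z ^ w := by
  have h1 := (xor_tw x hx w hw).2.1
  have h2 : L z i j k l (16 * w) = z ^ w := by
    interval_cases w
    · rw [mul_zero, L_0, pow_zero]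
    · rw [mul_one, L_16, pow_one]
  rw [← h1, L_mul h.toPlus hx (by omega), h2]

theorem conjy {x : ℕ} (hx : x < 32) : y * L z i j k l x = L z i j k l (app Ty x) * y := by
  refine conj_L h.toPlus h.y_act.z goody lifty (fun n => ?_) hx
  fin_cases n
  · change y * i * y⁻¹ = L z i j k l (2 ^^^ (16 * 1))
    rw [L_t h (by norm_num) (by norm_num), L_2, pow_one]; exact h.y_act.i
  · change y * j * y⁻¹ = L z i j k l (1 ^^^ (16 * 1))
    rw [L_t h (by norm_num) (by norm_num), L_1, pow_one]; exact h.y_act.j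
  · change y * k * y⁻¹ = L z i j k l (8 ^^^ (16 * 1))
    rw [L_t h (by norm_num) (by norm_num), L_8, pow_one]; exact h.y_act.k
  · change y * l * y⁻¹ = L z i j k l (4 ^^^ (16 * 1))
    rw [L_t h (by norm_num) (by norm_num), L_4, pow_one]; exact h.y_act.l

theorem kap_L {n x : ℕ} (hn : n < 36) (hx : x < 32) :
    kap x₁ x₂ y s n * L z i j k l x = L z i j k l (act n x) * kap x₁ x₂ y s n := by
  obtain ⟨hs1, hs2⟩ := conj_pow_aux (fun x hx => (app_lt x hx).2.2.2) (fun x hx => conjs h hx) (n / 18) x hx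
  obtain ⟨hy1, hy2⟩ := conj_pow_aux (fun x hx => (app_lt x hx).2.2.1) (fun x hx => conjy h hx) (n / 9 % 2) _ hs1
  obtain ⟨h21, h22⟩ := conj_pow_aux (fun x hx => (app_lt x hx).2.1) (fun x hx => conj2 h hx) (n / 3 % 3) _ hy1
  obtain ⟨h11, h12⟩ := conj_pow_aux (fun x hx => (app_lt x hx).1) (fun x hx => conj1 h hx) (n % 3) _ h21
  rw [act_eq n hn x hx, kap]
  calc x₁ ^ (n % 3) * x₂ ^ (n / 3 % 3) * y ^ (n / 9 % 2) * s ^ (n / 18) * L z i j k l x
      = x₁ ^ (n % 3) * x₂ ^ (n / 3 % 3) * y ^ (n / 9 % 2) * (s ^ (n / 18) * L z i j k l x) := by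
        simp only [mul_assoc]
    _ = x₁ ^ (n % 3) * x₂ ^ (n / 3 % 3) * (y ^ (n / 9 % 2) * L z i j k l ((app Ts)^[n / 18] x)) *
        s ^ (n / 18) := by rw [hs2]; simp only [mul_assoc]
    _ = x₁ ^ (n % 3) * (x₂ ^ (n / 3 % 3) * L z i j k l ((app Ty)^[n / 9 % 2] ((app Ts)^[n / 18] x))) *
        y ^ (n / 9 % 2) * s ^ (n / 18) := by rw [hy2]; simp only [mul_assoc]
    _ = (x₁ ^ (n % 3) * L z i j k l ((app T2)^[n / 3 % 3] ((app Ty)^[n / 9 % 2] ((app Ts)^[n / 18] x)))) *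
        x₂ ^ (n / 3 % 3) * y ^ (n / 9 % 2) * s ^ (n / 18) := by rw [h22]; simp only [mul_assoc]
    _ = _ := by rw [h12]; simp only [mul_assoc]

theorem z1 : Commute x₁ z := by
  have := h.x₁_act.z
  change x₁ * z = z * x₁
  calc x₁ * z = (x₁ * z * x₁⁻¹) * x₁ := by group
    _ = z * x₁ := by rw [this]

theorem z2 : Commute x₂ z := by
  have := h.x₂_act.z
  change x₂ * z = z * x₂
  calc x₂ * z = (x₂ * z * x₂⁻¹) * x₂ := by group
    _ = z * x₂ := by rw [this]

theorem zy : Commute y z := by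
  have := h.y_act.z
  change y * z = z * y
  calc y * z = (y * z * y⁻¹) * y := by group
    _ = z * y := by rw [this]

theorem zs : Commute s z := by
  have := h.s_act.z
  change s * z = z * s
  calc s * z = (s * z * s⁻¹) * s := by group
    _ = z * s := by rw [this]

theorem z_mod (n : ℕ) : z ^ (n % 2) = z ^ n := by
  conv_rhs => rw [← Nat.div_add_mod n 2, pow_add, pow_mul, pow_two, h.large.z_sq, one_pow, one_mul]

theorem s_xx (e a b : ℕ) (he : e < 2) : s ^ e * (x₁ ^ a * x₂ ^ b) =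
    (x₁ ^ (if e = 0 then a else b) * x₂ ^ (if e = 0 then b else a)) * s ^ e := by
  interval_cases e
  · simp
  · have h1 : s * x₁ ^ a = x₂ ^ a * s := by
      have h1 : s * x₁ ^ a * s⁻¹ = x₂ ^ a := by rw [← conj_pow, h.s1]
      rw [← h1]; group
    have h2 : s * x₂ ^ b = x₁ ^ b * s := by
      have h1 : s * x₂ ^ b * s⁻¹ = x₁ ^ b := by rw [← conj_pow, h.s2]
      rw [← h1]; group
    have h3 : x₂ ^ a * x₁ ^ b = x₁ ^ b * x₂ ^ a := ((show Commute x₁ x₂ from h.xx).pow_pow b a).eq.symm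
    rw [if_neg one_ne_zero, if_neg one_ne_zero, pow_one, ← mul_assoc, h1, mul_assoc, h2, ← mul_assoc, h3]

theorem y_xx (c a b : ℕ) (hc : c < 2) : y ^ c * (x₁ ^ a * x₂ ^ b) =
    (x₁ ^ (a * (1 + c)) * x₂ ^ (b * (1 + c))) * y ^ c := by
  interval_cases c
  · simp
  · have e1 : x₁⁻¹ = x₁ ^ 2 := by
      rw [inv_eq_iff_mul_eq_one, ← pow_succ', h.x₁3]
    have e2 : x₂⁻¹ = x₂ ^ 2 := by
      rw [inv_eq_iff_mul_eq_one, ← pow_succ', h.x₂3]
    have h1 : y * x₁ ^ a = x₁ ^ (a * (1 + 1)) * y := by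
      have h1 : y * x₁ ^ a * y⁻¹ = x₁ ^ (a * (1 + 1)) := by
        rw [← conj_pow, h.y1, e1, ← pow_mul, mul_comm]
      rw [← h1]; group
    have h2 : y * x₂ ^ b = x₂ ^ (b * (1 + 1)) * y := by
      have h1 : y * x₂ ^ b * y⁻¹ = x₂ ^ (b * (1 + 1)) := by
        rw [← conj_pow, h.y2, e2, ← pow_mul, mul_comm]
      rw [← h1]; group
    rw [pow_one, ← mul_assoc, h1, mul_assoc, h2, ← mul_assoc]

end conj

section tw

variable {t : ℕ} (ht : Tw t z y s)
include h ht

theorem s_y (e c : ℕ) (he : e < 2) (hc : c < 2) :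
    s ^ e * y ^ c = z ^ (t / 4 % 2 * (e * c)) * (y ^ c * s ^ e) := by
  interval_cases e
  · simp
  · interval_cases c
    · simp
    · have h1 : s * y = z ^ (t / 4 % 2) * (y * s) := by
        have h2 : s * y = (s * y * s⁻¹) * s := by group
        rw [h2, ht.sy, ((zy h).pow_right (t / 4 % 2)).eq]
        simp only [mul_assoc]
      simpa using h1

omit h in
theorem y_y (c c' : ℕ) (hc : c < 2) (hc' : c' < 2) :
    y ^ c * y ^ c' = z ^ (t % 2 * (c * c')) * y ^ ((c + c') % 2) := by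
  interval_cases c
  · simp [Nat.mod_eq_of_lt hc']
  · interval_cases c'
    · simp
    · simpa using ht.yy

omit h in
theorem s_s (e e' : ℕ) (he : e < 2) (he' : e' < 2) :
    s ^ e * s ^ e' = z ^ (t / 2 % 2 * (e * e')) * s ^ ((e + e') % 2) := by
  interval_cases e
  · simp [Nat.mod_eq_of_lt he']
  · interval_cases e'
    · simp
    · simpa using ht.ss

omit h ht in
theorem kap_of {A B C E : ℕ} (hA : A < 3) (hB : B < 3) (hC : C < 2) :
    kap x₁ x₂ y s (A + 3 * B + 9 * C + 18 * E) = x₁ ^ A * x₂ ^ B * y ^ C * s ^ E := by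
  have h1 : (A + 3 * B + 9 * C + 18 * E) % 3 = A := by omega
  have h2 : (A + 3 * B + 9 * C + 18 * E) / 3 % 3 = B := by omega
  have h3 : (A + 3 * B + 9 * C + 18 * E) / 9 % 2 = C := by omega
  have h4 : (A + 3 * B + 9 * C + 18 * E) / 18 = E := by omega
  rw [kap, h1, h2, h3, h4]

theorem kap_mul {n n' : ℕ} (hn : n < 36) (hn' : n' < 36) :
    kap x₁ x₂ y s n * kap x₁ x₂ y s n' = z ^ (tw t n n') * kap x₁ x₂ y s (km n n') := by
  have he : n / 18 < 2 := by omega
  have he' : n' / 18 < 2 := by omega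
  have hc : n / 9 % 2 < 2 := by omega
  have hc' : n' / 9 % 2 < 2 := by omega
  rw [km, kap_of (Nat.mod_lt _ (by norm_num)) (Nat.mod_lt _ (by norm_num)) (Nat.mod_lt _ (by norm_num)),
    pow_mod_three h.x₁3, pow_mod_three h.x₂3]
  simp only [kap, tw]
  generalize hA : n % 3 = a
  generalize hB : n / 3 % 3 = b
  generalize hC : n / 9 % 2 = c at hc ⊢
  generalize hE : n / 18 = e at he ⊢
  generalize n' % 3 = a'
  generalize n' / 3 % 3 = b'
  generalize n' / 9 % 2 = c' at hc' ⊢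
  generalize n' / 18 = e' at he' ⊢
  have e1 := s_xx h e a' b' he
  generalize (if e = 0 then a' else b') = P at e1 ⊢
  generalize (if e = 0 then b' else a') = R at e1 ⊢
  have e2 := y_xx h c P R hc
  have e3 := s_y h ht e c' he hc'
  have e4 := y_y ht c c' hc hc'
  have e5 := s_s ht e e' he he'
  have hxx : ∀ a b : ℕ, x₂ ^ a * x₁ ^ b = x₁ ^ b * x₂ ^ a := fun a b =>
    ((show Commute x₁ x₂ from h.xx).pow_pow b a).eq.symm
  rw [z_mod h, pow_add, pow_add, pow_add, pow_add]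
  have c1 : ∀ a n : ℕ, x₁ ^ a * z ^ n = z ^ n * x₁ ^ a := fun a n => ((z1 h).pow_pow a n).eq
  have c2 : ∀ a n : ℕ, x₂ ^ a * z ^ n = z ^ n * x₂ ^ a := fun a n => ((z2 h).pow_pow a n).eq
  have cy : ∀ a n : ℕ, y ^ a * z ^ n = z ^ n * y ^ a := fun a n => ((zy h).pow_pow a n).eq
  have cz : ∀ a n : ℕ, z ^ a * z ^ n = z ^ n * z ^ a := fun a n => by rw [← pow_add, ← pow_add, add_comm]
  generalize hu : z ^ (t / 4 % 2 * (e * c')) = u at e3 ⊢
  generalize hv : z ^ (t % 2 * (c * c')) = v at e4 ⊢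
  generalize hw : z ^ (t / 2 % 2 * (e * e')) = w at e5 ⊢
  have u1 : ∀ a, x₁ ^ a * u = u * x₁ ^ a := fun a => by rw [← hu]; exact c1 _ _
  have u2 : ∀ a, x₂ ^ a * u = u * x₂ ^ a := fun a => by rw [← hu]; exact c2 _ _
  have uy : ∀ a, y ^ a * u = u * y ^ a := fun a => by rw [← hu]; exact cy _ _
  have v1 : ∀ a, x₁ ^ a * v = v * x₁ ^ a := fun a => by rw [← hv]; exact c1 _ _
  have v2 : ∀ a, x₂ ^ a * v = v * x₂ ^ a := fun a => by rw [← hv]; exact c2 _ _
  have w1 : ∀ a, x₁ ^ a * w = w * x₁ ^ a := fun a => by rw [← hw]; exact c1 _ _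
  have w2 : ∀ a, x₂ ^ a * w = w * x₂ ^ a := fun a => by rw [← hw]; exact c2 _ _
  have wy : ∀ a, y ^ a * w = w * y ^ a := fun a => by rw [← hw]; exact cy _ _
  have uv : u * v = v * u := by rw [← hu, ← hv]; exact cz _ _
  have uw : u * w = w * u := by rw [← hu, ← hw]; exact cz _ _
  calc x₁ ^ a * x₂ ^ b * y ^ c * s ^ e * (x₁ ^ a' * x₂ ^ b' * y ^ c' * s ^ e')
      = x₁ ^ a * x₂ ^ b * y ^ c * (s ^ e * (x₁ ^ a' * x₂ ^ b')) * (y ^ c' * s ^ e') := by
        simp only [mul_assoc]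
    _ = x₁ ^ a * x₂ ^ b * (y ^ c * (x₁ ^ P * x₂ ^ R)) * (s ^ e * y ^ c') * s ^ e' := by
        rw [e1]; simp only [mul_assoc]
    _ = x₁ ^ a * (x₂ ^ b * x₁ ^ (P * (1 + c))) * x₂ ^ (R * (1 + c)) * (y ^ c * u) * y ^ c' *
        (s ^ e * s ^ e') := by
        rw [e2, e3]; simp only [mul_assoc]
    _ = x₁ ^ a * x₁ ^ (P * (1 + c)) * x₂ ^ b * (x₂ ^ (R * (1 + c)) * u) * (y ^ c * y ^ c') *
        (s ^ e * s ^ e') := by
        rw [hxx, uy]; simp only [mul_assoc]
    _ = x₁ ^ a * x₁ ^ (P * (1 + c)) * (x₂ ^ b * u) * (x₂ ^ (R * (1 + c)) * v) * (y ^ ((c + c') % 2) * w) *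
        s ^ ((e + e') % 2) := by
        rw [u2, e4, e5]; simp only [mul_assoc]
    _ = x₁ ^ a * (x₁ ^ (P * (1 + c)) * u) * (x₂ ^ b * v) * (x₂ ^ (R * (1 + c)) * w) * y ^ ((c + c') % 2) *
        s ^ ((e + e') % 2) := by
        rw [u2, v2, wy]; simp only [mul_assoc]
    _ = (x₁ ^ a * u) * (x₁ ^ (P * (1 + c)) * v) * (x₂ ^ b * w) * x₂ ^ (R * (1 + c)) * y ^ ((c + c') % 2) *
        s ^ ((e + e') % 2) := by
        rw [u1, v2, w2]; simp only [mul_assoc]
    _ = u * (x₁ ^ a * v) * (x₁ ^ (P * (1 + c)) * w) * x₂ ^ b * x₂ ^ (R * (1 + c)) * y ^ ((c + c') % 2) *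
        s ^ ((e + e') % 2) := by
        rw [u1, v1, w2]; simp only [mul_assoc]
    _ = u * v * (x₁ ^ a * w) * x₁ ^ (P * (1 + c)) * x₂ ^ b * x₂ ^ (R * (1 + c)) * y ^ ((c + c') % 2) *
        s ^ ((e + e') % 2) := by
        rw [v1, w1]; simp only [mul_assoc]
    _ = (v * (u * w)) * (x₁ ^ a * x₁ ^ (P * (1 + c))) * (x₂ ^ b * x₂ ^ (R * (1 + c))) * y ^ ((c + c') % 2) *
        s ^ ((e + e') % 2) := by
        rw [w1, uv]; simp only [mul_assoc]
    _ = _ := by rw [uw]; simp only [mul_assoc]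

theorem F_mul {m n : ℕ} (hm : m < 1152) (hn : n < 1152) :
    F z i j k l x₁ x₂ y s (mm t m n) = F z i j k l x₁ x₂ y s m * F z i j k l x₁ x₂ y s n := by
  have h1 : act (m / 32) (n % 32) < 32 := act_lt _ (by omega) _ (by omega)
  have h2 : qm (m % 32) (act (m / 32) (n % 32)) < 32 := qm_lt _ (by omega) _ h1
  have h5 := (xor_tw _ h2 (tw t (m / 32) (n / 32)) (tw_lt _ _ _)).1
  have h7 : mm t m n % 32 = qm (m % 32) (act (m / 32) (n % 32)) ^^^ (16 * tw t (m / 32) (n / 32)) := by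
    unfold mm; omega
  have h8 : mm t m n / 32 = km (m / 32) (n / 32) := by
    unfold mm; omega
  unfold F
  rw [h7, h8, L_t h h2 (tw_lt _ _ _), L_mul h.toPlus (by omega) h1]
  have h9 := kap_mul h ht (n := m / 32) (n' := n / 32) (by omega) (by omega)
  have h10 := kap_L h (n := m / 32) (x := n % 32) (by omega) (by omega)
  calc _ = L z i j k l (m % 32) * L z i j k l (act (m / 32) (n % 32)) *
        (z ^ (tw t (m / 32) (n / 32)) * kap x₁ x₂ y s (km (m / 32) (n / 32))) := by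
        simp only [mul_assoc]
    _ = L z i j k l (m % 32) * (L z i j k l (act (m / 32) (n % 32)) * kap x₁ x₂ y s (m / 32)) *
        kap x₁ x₂ y s (n / 32) := by rw [← h9]; simp only [mul_assoc]
    _ = _ := by rw [← h10]; simp only [mul_assoc]

end tw

/-! ### values -/

theorem F_lt {m : ℕ} (hm : m < 32) : F z i j k l x₁ x₂ y s m = L z i j k l m := by
  have h1 : m % 32 = m := by omega
  have h2 : m / 32 = 0 := by omega
  simp [F, h1, h2, kap]

theorem F_0 : F z i j k l x₁ x₂ y s 0 = 1 := by rw [F_lt (by norm_num), L_0]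
theorem F_1 : F z i j k l x₁ x₂ y s 1 = i := by rw [F_lt (by norm_num), L_1]
theorem F_2 : F z i j k l x₁ x₂ y s 2 = j := by rw [F_lt (by norm_num), L_2]
theorem F_3 : F z i j k l x₁ x₂ y s 3 = i * j := by rw [F_lt (by norm_num), L_3]
theorem F_4 : F z i j k l x₁ x₂ y s 4 = k := by rw [F_lt (by norm_num), L_4]
theorem F_5 : F z i j k l x₁ x₂ y s 5 = i * k := by rw [F_lt (by norm_num), L_5]
theorem F_8 : F z i j k l x₁ x₂ y s 8 = l := by rw [F_lt (by norm_num), L_8]
theorem F_10 : F z i j k l x₁ x₂ y s 10 = j * l := by rw [F_lt (by norm_num), L_10]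
theorem F_12 : F z i j k l x₁ x₂ y s 12 = k * l := by rw [F_lt (by norm_num), L_12]
theorem F_15 : F z i j k l x₁ x₂ y s 15 = i * j * k * l := by rw [F_lt (by norm_num), L_15]
theorem F_16 : F z i j k l x₁ x₂ y s 16 = z := by rw [F_lt (by norm_num), L_16]

theorem F_6 : F z i j k l x₁ x₂ y s 6 = j * k := by
  rw [F_lt (by norm_num), Frame.L_bits 6 false true true false false (by decide)]; simp [zp]

theorem F_9 : F z i j k l x₁ x₂ y s 9 = i * l := by
  rw [F_lt (by norm_num), Frame.L_bits 9 true false false true false (by decide)]; simp [zp]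

theorem F_32 : F z i j k l x₁ x₂ y s 32 = x₁ := by simp [F, L_0, kap]
theorem F_96 : F z i j k l x₁ x₂ y s 96 = x₂ := by simp [F, L_0, kap]
theorem F_288 : F z i j k l x₁ x₂ y s 288 = y := by simp [F, L_0, kap]
theorem F_576 : F z i j k l x₁ x₂ y s 576 = s := by simp [F, L_0, kap]

section main

include h

/-- every element of `C_G(z)` has a code -/
theorem exists_code [Finite G] {c : G} (hc : c * z = z * c) :
    ∃ m < 1152, F z i j k l x₁ x₂ y s m = c := by
  obtain ⟨t, ht8, ht⟩ := exists_tw h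
  let K₀ : Submonoid G :=
    { carrier := {g | ∃ m < 1152, F z i j k l x₁ x₂ y s m = g}
      one_mem' := ⟨0, by norm_num, F_0⟩
      mul_mem' := by
        rintro _ _ ⟨m, hm, rfl⟩ ⟨n, hn, rfl⟩
        exact ⟨mm t m n, mm_lt hm hn, F_mul h ht hm hn⟩ }
  let K : Subgroup G :=
    { K₀ with
      inv_mem' := by
        intro g hg
        have h1 : g⁻¹ = g ^ (orderOf g - 1) := by
          rw [inv_eq_iff_mul_eq_one, ← pow_succ', Nat.sub_add_cancel (orderOf_pos g),
            pow_orderOf_eq_one]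
        rw [h1]
        exact K₀.pow_mem hg _ }
  have hle : Subgroup.centralizer ({z} : Set G) ≤ K := by
    rw [h.cent, Subgroup.closure_le]
    rintro g hg
    simp only [Set.mem_insert_iff, Set.mem_singleton_iff] at hg
    rcases hg with rfl | rfl | rfl | rfl | rfl | rfl | rfl | rfl
    · exact ⟨1, by norm_num, F_1⟩
    · exact ⟨2, by norm_num, F_2⟩
    · exact ⟨4, by norm_num, F_4⟩
    · exact ⟨8, by norm_num, F_8⟩
    · exact ⟨32, by norm_num, F_32⟩
    · exact ⟨96, by norm_num, F_96⟩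
    · exact ⟨288, by norm_num, F_288⟩
    · exact ⟨576, by norm_num, F_576⟩
  exact hle (Subgroup.mem_centralizer_singleton_iff.2 hc)

/-- all codes give elements of `C_G(z)` -/
theorem F_comm (m : ℕ) : F z i j k l x₁ x₂ y s m * z = z * F z i j k l x₁ x₂ y s m := by
  have hL : L z i j k l (m % 32) * z = z * L z i j k l (m % 32) := by
    have h1 := L_mul h.toPlus (x := m % 32) (y := 16) (by omega) (by norm_num)
    have h2 := L_mul h.toPlus (x := 16) (y := m % 32) (by norm_num) (by omega)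
    have h3 : ∀ x < 32, qm x 16 = qm 16 x := by decide +kernel
    rw [L_16] at h1 h2
    rw [← h1, ← h2, h3 _ (by omega)]
  have e4 : Commute (kap x₁ x₂ y s (m / 32)) z := by
    unfold kap
    exact ((((z1 h).pow_left _).mul_left ((z2 h).pow_left _)).mul_left ((zy h).pow_left _)).mul_left
      ((zs h).pow_left _)
  have e5 : Commute (L z i j k l (m % 32)) z := hL
  exact (e5.mul_left e4).eq

theorem F_inj [Finite G] {m n : ℕ} (hm : m < 1152) (hn : n < 1152)
    (he : F z i j k l x₁ x₂ y s m = F z i j k l x₁ x₂ y s n) : m = n := by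
  let f : Fin 1152 → Subgroup.centralizer ({z} : Set G) := fun m =>
    ⟨F z i j k l x₁ x₂ y s m, Subgroup.mem_centralizer_singleton_iff.2 (F_comm h m)⟩
  have hf : Function.Surjective f := by
    rintro ⟨c, hc⟩
    obtain ⟨m, hm, rfl⟩ := exists_code h (Subgroup.mem_centralizer_singleton_iff.1 hc)
    exact ⟨⟨m, hm⟩, rfl⟩
  have hb : Function.Bijective f := by
    rw [Nat.bijective_iff_surjective_and_card]
    exact ⟨hf, by rw [h.card_cent, Nat.card_eq_fintype_card, Fintype.card_fin]⟩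
  have h1 : (⟨m, hm⟩ : Fin 1152) = ⟨n, hn⟩ := hb.1 (Subtype.ext he)
  exact congrArg Fin.val h1

/-- codes of the elements of `Q` -/
theorem mem_Q_iff [Finite G] {m : ℕ} (hm : m < 1152) : F z i j k l x₁ x₂ y s m ∈ Q ↔ m < 32 := by
  have hcode : ∀ g ∈ Q, ∃ n < 32, F z i j k l x₁ x₂ y s n = g := by
    intro g hg
    have h1 : Q ≤ (lift (rels h.toPlus) tri_P4).range := by
      conv_lhs => rw [h.gen]
      rw [Subgroup.closure_le]
      rintro g hg
      simp only [Set.mem_insert_iff, Set.mem_singleton_iff] at hg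
      rcases hg with rfl | rfl | rfl | rfl
      · exact ⟨toX 1, by rw [← L_eq h.toPlus, L_1]⟩
      · exact ⟨toX 2, by rw [← L_eq h.toPlus, L_2]⟩
      · exact ⟨toX 4, by rw [← L_eq h.toPlus, L_4]⟩
      · exact ⟨toX 8, by rw [← L_eq h.toPlus, L_8]⟩
    obtain ⟨x, hx⟩ := h1 hg
    obtain ⟨n, hn, rfl⟩ := toX_surj x
    exact ⟨n, hn, by rw [F_lt hn, L_eq h.toPlus, hx]⟩
  constructor
  · intro hg
    obtain ⟨n, hn, hnm⟩ := hcode _ hg
    rw [← F_inj h (by omega) hm hnm]; exact hn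
  · intro hm'
    rw [F_lt hm']
    have hQ : ∀ g ∈ ({i, j, k, l} : Set G), g ∈ Q := fun g hg => h.gen ▸ Subgroup.subset_closure hg
    have hzp : ∀ (g : G) (b : Bool), g ∈ Q → zp g b ∈ Q := by
      intro g b hg
      cases b
      · exact one_mem Q
      · exact hg
    rw [Frame.L_bits m _ _ _ _ _ ⟨rfl, rfl, rfl, rfl, rfl⟩]
    refine mul_mem (hzp _ _ h.large.z_mem) (mul_mem (mul_mem (mul_mem ?_ ?_) ?_) ?_) <;>
      exact hzp _ _ (hQ _ (by simp))

variable [Finite G] {t : ℕ} (ht : Tw t z y s)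
include ht

theorem comm_iff {m n : ℕ} (hm : m < 1152) (hn : n < 1152) :
    F z i j k l x₁ x₂ y s m * F z i j k l x₁ x₂ y s n = F z i j k l x₁ x₂ y s n * F z i j k l x₁ x₂ y s m ↔
      mm t m n = mm t n m := by
  rw [← F_mul h ht hm hn, ← F_mul h ht hn hm]
  exact ⟨fun e => F_inj h (mm_lt hm hn) (mm_lt hn hm) e, fun e => by rw [e]⟩

theorem mul_eq_iff {m n r : ℕ} (hm : m < 1152) (hn : n < 1152) (hr : r < 1152) :
    F z i j k l x₁ x₂ y s m * F z i j k l x₁ x₂ y s n = F z i j k l x₁ x₂ y s r ↔ mm t m n = r := by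
  rw [← F_mul h ht hm hn]
  exact ⟨fun e => F_inj h (mm_lt hm hn) hr e, fun e => by rw [e]⟩

theorem conj_eq_iff {c m n : ℕ} (hc : c < 1152) (hm : m < 1152) (hn : n < 1152) :
    F z i j k l x₁ x₂ y s c * F z i j k l x₁ x₂ y s m * (F z i j k l x₁ x₂ y s c)⁻¹ =
      F z i j k l x₁ x₂ y s n ↔ mm t c m = mm t n c := by
  rw [mul_inv_eq_iff_eq_mul, ← F_mul h ht hc hm, ← F_mul h ht hn hc]
  exact ⟨fun e => F_inj h (mm_lt hc hm) (mm_lt hn hc) e, fun e => by rw [e]⟩

theorem isConj_of {c m n : ℕ} (hc : c < 1152) (hm : m < 1152) (hn : n < 1152) (he : mm t c m = mm t n c) :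
    IsConj (F z i j k l x₁ x₂ y s m) (F z i j k l x₁ x₂ y s n) :=
  isConj_iff.2 ⟨_, (conj_eq_iff h ht hc hm hn).2 he⟩

omit [Finite G] in
theorem F_inv {m n : ℕ} (hm : m < 1152) (hn : n < 1152) (he : mm t m n = 0) :
    (F z i j k l x₁ x₂ y s m)⁻¹ = F z i j k l x₁ x₂ y s n := by
  rw [inv_eq_iff_mul_eq_one, ← F_mul h ht hm hn, he, F_0]

theorem sq_iff {m : ℕ} (hm : m < 1152) :
    F z i j k l x₁ x₂ y s m * F z i j k l x₁ x₂ y s m = 1 ↔ mm t m m = 0 := by
  rw [← F_0 (z := z) (i := i) (j := j) (k := k) (l := l) (x₁ := x₁) (x₂ := x₂) (y := y) (s := s)]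
  exact mul_eq_iff h ht hm hm (by norm_num)

end main

end

end Cfsg.Agent.SmallExtra438.FrameA
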