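import Cfsg.Agent.SmallExtra438.NineAWeak
import Cfsg.Agent.LargeExtra.WCEndPSU
import Cfsg.Agent.LargeExtra.TwoCentral

/-!
# S1759, case `9a`: the geometry of the conjugates of `z` and the identification with `U₄(2)` (helper438)
-/

set_option autoImplicit false

namespace Cfsg.Agent.SmallExtra438.NineAGeo

open Cfsg.Agent.LargeExtra.Model Cfsg.Agent.LargeExtra.Pres Cfsg.Agent.LargeExtra.Models
open Cfsg.Agent.LargeExtra.W2 Cfsg.Agent.SmallExtra438.Model Cfsg.Agent.SmallExtra438.Frame
open Cfsg.Agent.SmallExtra438.NineA Cfsg.Agent.SmallExtra438.NineAWeak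
open Cfsg.Agent.Co2Type.Quad Cfsg.Agent.LargeExtra.Base Cfsg.Agent.LargeExtra.WCEnd

theorem m_list : ∀ a ∈ [16, 288, 309, 314, 319], ∀ b ∈ [16, 288, 309, 314, 319], mm 0 a b = mm 0 b a := by
  decide +kernel

theorem m_prod : mm 0 16 (mm 0 288 (mm 0 309 (mm 0 314 319))) = 0 := by decide +kernel

theorem m_mul_mem : ∀ a ∈ [309, 314, 319], mm 0 288 a < 32 := by decide +kernel

theorem m_fs : ∀ f ∈ [5, 10, 15], mm 0 (mm 0 16 f) 288 = f + 304 ∧ mm 0 f 288 = f + 288 := by
  decide +kernel

variable {G : Type*} [Group G] [Finite G] {Q : Subgroup G} {z i j k l x₁ x₂ s : G}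

section loc

variable (h : Case9a Q z i j k l x₁ x₂ s) (hs : s * s = 1)
include h hs

omit hs in
theorem eq_z_of_mem_Q (hs : s * s = 1) {t : G} (ht : IsConj z t) (htQ : t ∈ Q) : t = z := by
  obtain ⟨g, rfl⟩ := isConj_iff.1 ht
  exact weak h hs htQ

/-- the four conjugates of `s` under `Q` -/
theorem conj_s {m : ℕ} (hm : m ∈ [288, 309, 314, 319]) : IsConj s (F z i j k l x₁ x₂ s m) := by
  simp only [List.mem_cons, List.not_mem_nil, or_false] at hm
  have key : ∀ f ∈ [5, 10, 15], IsConj s (F z i j k l x₁ x₂ s (f + 304)) := by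
    intro f hf
    obtain ⟨a, -, -, -, -, ha⟩ := exists_alpha h hs (mem_FS' (z := z) (x₁ := x₁) (x₂ := x₂) (s := s) hf)
    have hf' := (lt_of_mem hf).1
    refine isConj_iff.2 ⟨a, ?_⟩
    rw [ha, mul_inv_cancel_right, ← (m_fs f hf).1, mul0 h hs (lt0 (by norm_num) hf') (by norm_num),
      mul0 h hs (by norm_num) hf', F_16, F_288]
  rcases hm with rfl | rfl | rfl | rfl
  · rw [F_288]
  · exact key 5 (by simp)
  · exact key 10 (by simp)
  · exact key 15 (by simp)

/-- the four conjugates of `z s` under `Q` -/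
theorem conj_zs {m : ℕ} (hm : m ∈ [304, 293, 298, 303]) : IsConj (z * s) (F z i j k l x₁ x₂ s m) := by
  simp only [List.mem_cons, List.not_mem_nil, or_false] at hm
  have key : ∀ f ∈ [5, 10, 15], IsConj (z * s) (F z i j k l x₁ x₂ s (f + 288)) := by
    intro f hf
    obtain ⟨a, -, haz, -, -, ha⟩ := exists_alpha h hs (mem_FS' (z := z) (x₁ := x₁) (x₂ := x₂) (s := s) hf)
    have hf' := (lt_of_mem hf).1
    refine isConj_iff.2 ⟨a, ?_⟩
    rw [← (m_fs f hf).2, mul0 h hs hf' (by norm_num), F_288]
    have zz := h.large.z_sq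
    calc a * (z * s) * a⁻¹ = (a * z) * s * a⁻¹ := by group
      _ = z * (a * s) * a⁻¹ := by rw [haz]; group
      _ = (z * z) * F z i j k l x₁ x₂ s f * s := by rw [ha]; group
      _ = _ := by rw [zz, one_mul]
  rcases hm with rfl | rfl | rfl | rfl
  · rw [F_304]
  · exact key 5 (by simp)
  · exact key 10 (by simp)
  · exact key 15 (by simp)

/-- the conjugates of `z` commuting with `z` and `s` -/
theorem mem_list (hsP : IsConj z s) {t : G} (ht : IsConj z t) (htz : t * z = z * t)
    (hts : t * s = s * t) : ∃ m ∈ [16, 288, 309, 314, 319], F z i j k l x₁ x₂ s m = t := by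
  have htt : t * t = 1 := by
    obtain ⟨g, rfl⟩ := isConj_iff.1 ht
    calc g * z * g⁻¹ * (g * z * g⁻¹) = g * (z * z) * g⁻¹ := by group
      _ = 1 := by rw [h.large.z_sq]; group
  obtain ⟨m, hm, rfl⟩ := exists_code h htz
  have h1 : mm 0 m 288 = mm 0 288 m := by
    rw [← eq_iff h hs hm (by norm_num) (by norm_num) hm, F_288]; exact hts
  have h2 := f_cent_s m hm h1 ((sq_iff h hs hm).1 htt)
  by_cases hQ : m < 32
  · refine ⟨16, by simp, ?_⟩
    rw [F_16]
    exact (eq_z_of_mem_Q h hs ht ((mem_Q_iff h hm).2 hQ)).symm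
  · by_cases hb : m ∈ [304, 293, 298, 303]
    · exact absurd (ht.trans (conj_zs h hs hb).symm) (fun h3 => not_both h hs hsP h3)
    · refine ⟨m, ?_, rfl⟩
      simp only [List.mem_cons, List.not_mem_nil, or_false] at h2 hb ⊢
      omega

end loc

/-- `P = z^G` -/
def PP (z : G) : Set G := {x | IsConj z x}

open Classical in
/-- the large extraspecial subgroup attached to a conjugate of `z` -/
noncomputable def QQ (Q : Subgroup G) (z p : G) : Subgroup G :=
  if hp : ∃ g, g * z * g⁻¹ = p then Q.map (MulAut.conj hp.choose).toMonoidHom else ⊥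

omit [Finite G] in
theorem QQ_eq (h : Large Q z) (g : G) : QQ Q z (g * z * g⁻¹) = Q.map (MulAut.conj g).toMonoidHom := by
  have hp : ∃ g', g' * z * g'⁻¹ = g * z * g⁻¹ := ⟨g, rfl⟩
  rw [QQ, dif_pos hp]
  exact map_eq_of_conj h hp.choose_spec

theorem frame_pt (h : Case9a Q z i j k l x₁ x₂ s) (hs : s * s = 1) {p t : G} (hp : IsConj z p)
    (ht : IsConj z t) (hne : p ≠ t) (hc : p * t = t * p) :
    ∃ i' j' k' l' x₁' x₂', Case9a (QQ Q z p) p i' j' k' l' x₁' x₂' t ∧ t * t = 1 := by
  obtain ⟨g, rfl⟩ := isConj_iff.1 hp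
  have htt : t * t = 1 := by
    obtain ⟨g', rfl⟩ := isConj_iff.1 ht
    calc g' * z * g'⁻¹ * (g' * z * g'⁻¹) = g' * (z * z) * g'⁻¹ := by group
      _ = 1 := by rw [h.large.z_sq]; group
  have H := conj h g
  have hss : g * s * g⁻¹ * (g * s * g⁻¹) = 1 := by
    calc g * s * g⁻¹ * (g * s * g⁻¹) = g * (s * s) * g⁻¹ := by group
      _ = 1 := by rw [hs]; group
  have htQ : t ∉ Q.map (MulAut.conj g).toMonoidHom := fun hm =>
    hne (eq_z_of_mem_Q H hss (hp.symm.trans ht) hm).symm
  obtain ⟨i', j', k', l', x₁', x₂', K⟩ := exists_frame H hss hc.symm htt htQ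
  rw [QQ_eq h.large]
  exact ⟨i', j', k', l', x₁', x₂', K, htt⟩

theorem geo (h : Case9a Q z i j k l x₁ x₂ s) (hs : s * s = 1) : Geo (PP z) (QQ Q z) where
  conj_mem := by
    intro p hp g
    exact (show IsConj z p from hp).trans (isConj_iff.2 ⟨g, rfl⟩)
  exists_conj := by
    intro p hp q hq
    exact isConj_iff.1 ((show IsConj z p from hp).symm.trans hq)
  large := by
    intro p hp
    obtain ⟨g, rfl⟩ := isConj_iff.1 (show IsConj z p from hp)
    rw [QQ_eq h.large]
    exact h.large.conj g
  line := by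
    intro p hp t ht hne hc
    obtain ⟨i', j', k', l', x₁', x₂', K, hss⟩ := frame_pt h hs hp ht hne hc
    have hpt : IsConj p t := (show IsConj z p from hp).symm.trans ht
    have e16 : F p i' j' k' l' x₁' x₂' t 16 = p := F_16
    have e288 : F p i' j' k' l' x₁' x₂' t 288 = t := F_288
    have hm : ∀ m ∈ [288, 309, 314, 319], F p i' j' k' l' x₁' x₂' t m ∈ PP z := fun m hm =>
      (show IsConj z t from ht).trans (conj_s K hss hm)
    refine ⟨_, hm 309 (by simp), _, hm 314 (by simp), _, hm 319 (by simp), ?_, ?_, ?_, ?_⟩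
    · have h1 : [p, t, F p i' j' k' l' x₁' x₂' t 309, F p i' j' k' l' x₁' x₂' t 314,
          F p i' j' k' l' x₁' x₂' t 319] = [16, 288, 309, 314, 319].map (F p i' j' k' l' x₁' x₂' t) := by
        simp [e16, e288]
      rw [h1]
      apply List.Nodup.map_on
      · intro a ha b hb hab
        simp only [List.mem_cons, List.not_mem_nil, or_false] at ha hb
        exact F_inj K (by omega) (by omega) hab
      · decide
    · have h1 : [p, t, F p i' j' k' l' x₁' x₂' t 309, F p i' j' k' l' x₁' x₂' t 314,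
          F p i' j' k' l' x₁' x₂' t 319] = [16, 288, 309, 314, 319].map (F p i' j' k' l' x₁' x₂' t) := by
        simp [e16, e288]
      rw [h1]
      intro a ha b hb
      obtain ⟨m, hm, rfl⟩ := List.mem_map.1 ha
      obtain ⟨n, hn, rfl⟩ := List.mem_map.1 hb
      have hm' : m < 576 := by
        simp only [List.mem_cons, List.not_mem_nil, or_false] at hm; omega
      have hn' : n < 576 := by
        simp only [List.mem_cons, List.not_mem_nil, or_false] at hn; omega
      exact (eq_iff K hss hm' hn' hn' hm').2 (m_list m hm n hn)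
    · have h1 := congrArg (F p i' j' k' l' x₁' x₂' t) m_prod
      rw [mul0 K hss (by norm_num) (by decide +kernel), mul0 K hss (by norm_num) (by decide +kernel),
        mul0 K hss (by norm_num) (by decide +kernel), mul0 K hss (by norm_num) (by norm_num),
        F_0, e16, e288] at h1
      simpa [List.prod_cons] using h1
    · intro u hu hup hut
      obtain ⟨m, hm, rfl⟩ := mem_list K hss hpt ((show IsConj z p from hp).symm.trans hu) hup hut
      simp only [List.mem_cons, List.not_mem_nil, or_false] at hm ⊢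
      rcases hm with rfl | rfl | rfl | rfl | rfl
      · left; exact e16
      · right; left; exact e288
      · right; right; left; rfl
      · right; right; right; left; rfl
      · right; right; right; right; rfl
  mul_mem := by
    intro p hp t ht r hr hpt hpr htr cpt cpr ctr
    obtain ⟨i', j', k', l', x₁', x₂', K, hss⟩ := frame_pt h hs hr hp (fun e => hpr e.symm) cpr.symm
    have hrp : IsConj r p := (show IsConj z r from hr).symm.trans hp
    obtain ⟨m, hm, rfl⟩ := mem_list K hss hrp ((show IsConj z r from hr).symm.trans ht) ctr cpt.symm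
    have hm' : m ∈ [309, 314, 319] := by
      simp only [List.mem_cons, List.not_mem_nil, or_false] at hm ⊢
      rcases hm with rfl | rfl | hm
      · exact absurd F_16 htr
      · exact absurd F_288.symm hpt
      · exact hm
    have hm2 : m < 576 := by
      simp only [List.mem_cons, List.not_mem_nil, or_false] at hm; omega
    have h1 := m_mul_mem m hm'
    have h2 := (mem_Q_iff K (m := mm 0 288 m) (lt0 (by norm_num) hm2)).2 h1
    rwa [mul0 K hss (by norm_num) hm2, F_288] at h2
  mul_notMem := by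
    intro p hp t ht hne hc hmem
    obtain ⟨i', j', k', l', x₁', x₂', K, hss⟩ := frame_pt h hs hp ht hne hc
    have hpz : IsConj p z := (show IsConj z p from hp).symm
    exact not_both K hss (hpz.trans ht) (hpz.trans hmem)
  ord_three := by
    intro p hp t ht u hu htp hup hnc
    have hne : p ≠ t := fun e => hnc (e ▸ hup.symm)
    have hne' : p ≠ u := fun e => hnc (e ▸ htp)
    obtain ⟨i', j', k', l', x₁', x₂', K, hss⟩ := frame_pt h hs hp ht hne htp.symm
    have hpu : IsConj p u := (show IsConj z p from hp).symm.trans hu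
    have huQ : u ∉ QQ Q z p := fun hm => hne' (eq_z_of_mem_Q K hss hpu hm).symm
    have huu : u * u = 1 := by
      obtain ⟨g', rfl⟩ := isConj_iff.1 (show IsConj z u from hu)
      calc g' * z * g'⁻¹ * (g' * z * g'⁻¹) = g' * (z * z) * g'⁻¹ := by group
        _ = 1 := by rw [h.large.z_sq]; group
    obtain ⟨m, hm, rfl⟩ := exists_code K hup
    rw [mem_Q_iff K hm] at huQ
    have hm0 := (sq_iff K hss hm).1 huu
    have h4 : mm 0 288 m < 576 := lt0 (by norm_num) hm
    have h3 := f_three m hm (by omega) hm0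
    refine ⟨?_, ?_⟩
    · have h5 := (mem_Q_iff K (m := mm 0 (mm 0 288 m) (mm 0 (mm 0 288 m) (mm 0 288 m))) (by omega)).2 h3
      rw [mul0 K hss h4 (lt0 h4 h4), mul0 K hss h4 h4, mul0 K hss (by norm_num) hm, F_288] at h5
      rw [pow_succ, pow_two, mul_assoc]
      exact h5
    · intro hmem
      have e1 : F p i' j' k' l' x₁' x₂' t (mm 0 288 m) = t * F p i' j' k' l' x₁' x₂' t m := by
        rw [mul0 K hss (by norm_num) hm, F_288]
      rw [← e1, mem_Q_iff K h4] at hmem
      have h5 := f_coset m hm hm0 hmem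
      apply hnc
      have h6 := (eq_iff K hss (by norm_num) hm hm (by norm_num)).2 h5
      rwa [F_288] at h6

/-! ### identification -/

theorem card_psu_five {F : Type} [Field F] [Fintype F] (hF : Fintype.card F = 4) :
    Nat.card (Cfsg.PSU 5 F 2) = 13685760 := by
  have h1 := Cfsg.Agent.S0280.result (F := F) (q := 2) (by rw [hF]; norm_num) 5 (by norm_num)
  have h2 : Nat.gcd 5 (2 + 1) = 1 := by norm_num
  have h3 : (∏ i ∈ Finset.range 5, (if Even i then 2 ^ (i + 1) + 1 else 2 ^ (i + 1) - 1)) = 40095 := by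
    decide
  rw [h2, h3] at h1
  norm_num at h1
  omega

/-- **S1759, case `9a`**: the simple group is `U₄(2)`. -/
theorem recognize [IsSimpleGroup G] (hc : ¬ IsMulCommutative G) (h : Case9a Q z i j k l x₁ x₂ s) :
    ∃ (F : Type) (_ : Field F) (_ : Fintype F), Fintype.card F = 4 ∧ Nonempty (G ≃* Cfsg.PSU 4 F 2) := by
  have hs := split_of_simple hc h
  obtain ⟨F, hF1, hF2, hF, h1 | h1⟩ := psu_of_geo hc (geo h hs) (z := z) (IsConj.refl z)
  · exact ⟨F, hF1, hF2, hF, h1⟩
  · exfalso
    obtain ⟨e⟩ := h1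
    have h2 : Nat.card G = 13685760 := (Nat.card_congr e.toEquiv).trans (card_psu_five hF)
    have h3 := Cfsg.Agent.LargeExtra.TwoCentral.odd_index h.large
    have h4 := Subgroup.card_mul_index (Subgroup.centralizer ({z} : Set G))
    rw [h.card_cent, h2] at h4
    obtain ⟨n, hn⟩ := h3
    omega

end Cfsg.Agent.SmallExtra438.NineAGeo
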