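import Cfsg.Agent.SmallExtra438.FrameA

/-!
# Classes of involutions of `C_G(z)` in the case `9aa` of S1759, twists `0, 4, 5` (helper438)

Representatives (codes): `16 = z`, `5 = i k` (the class `Q − {z}` of 18 involutions), and outside `Q`
* `t = 0`: `288 = y` (72), `576 = s`, `592 = z s`, `864 = y s`, `880 = z y s` (12 each);
* `t = 4`: `288 = y` (72), `576 = s` (24);
* `t = 5`: `576 = s` (24), `864 = y s` (24).
-/

set_option autoImplicit false

namespace Cfsg.Agent.SmallExtra438.ClassA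

open Cfsg.Agent.LargeExtra.W2 Cfsg.Agent.SmallExtra438.ModelA Cfsg.Agent.SmallExtra438.FrameA

/-- `(m, c, r)`: `c m c⁻¹ = r` -/
def cls0 : List (ℕ × ℕ × ℕ) :=
  [(5, 0, 5), (6, 64, 5), (7, 672, 5), (9, 192, 5), (10, 288, 5), (11, 320, 5), (13, 96, 5), (14, 384,
  5), (15, 416, 5), (16, 0, 16), (21, 18, 5), (22, 952, 5), (23, 696, 5), (25, 664, 5), (26, 290, 5),
  (27, 760, 5), (29, 114, 5), (30, 386, 5), (31, 728, 5), (288, 0, 288), (291, 17, 288), (300, 20,
  288), (303, 890, 288), (304, 604, 288), (307, 18, 288), (316, 24, 288), (319, 886, 288), (320, 672,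
  288), (322, 370, 288), (332, 689, 288), (334, 378, 288), (336, 700, 288), (338, 696, 288), (348,
  690, 288), (350, 374, 288), (352, 64, 288), (353, 338, 288), (364, 327, 288), (365, 346, 288), (368,
  332, 288), (369, 337, 288), (380, 324, 288), (381, 342, 288), (384, 96, 288), (387, 113, 288), (392,
  946, 288), (395, 954, 288), (400, 124, 288), (403, 114, 288), (408, 120, 288), (411, 950, 288),
  (416, 704, 288), (418, 562, 288), (424, 718, 288), (426, 714, 288), (432, 732, 288), (434, 728,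
  288), (440, 722, 288), (442, 1126, 288), (448, 160, 288), (449, 530, 288), (456, 1042, 288), (457,
  1034, 288), (464, 524, 288), (465, 529, 288), (472, 516, 288), (473, 534, 288), (480, 192, 288),
  (483, 209, 288), (484, 212, 288), (487, 650, 288), (496, 220, 288), (499, 210, 288), (500, 658,
  288), (503, 646, 288), (512, 736, 288), (514, 466, 288), (516, 753, 288), (518, 746, 288), (528,
  764, 288), (530, 760, 288), (532, 738, 288), (534, 742, 288), (544, 256, 288), (545, 434, 288),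
  (548, 1010, 288), (549, 1018, 288), (560, 428, 288), (561, 433, 288), (564, 1022, 288), (565, 838,
  288), (576, 0, 576), (581, 17, 592), (586, 18, 592), (591, 28, 592), (592, 0, 592), (597, 17, 576),
  (602, 18, 576), (607, 28, 576), (736, 192, 576), (743, 220, 592), (745, 209, 592), (750, 210, 592),
  (752, 192, 592), (759, 220, 576), (761, 209, 576), (766, 210, 576), (800, 64, 576), (806, 782, 592),
  (811, 124, 592), (813, 796, 592), (816, 64, 592), (822, 782, 576), (827, 124, 576), (829, 796, 576),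
  (864, 0, 864), (870, 18, 864), (873, 17, 864), (879, 248, 864), (880, 0, 880), (886, 18, 880), (889,
  17, 880), (895, 248, 880), (992, 64, 864), (999, 84, 864), (1002, 81, 864), (1005, 83, 864), (1008,
  64, 880), (1015, 84, 880), (1018, 81, 880), (1021, 83, 880), (1120, 32, 864), (1125, 50, 864),
  (1131, 56, 864), (1134, 51, 864), (1136, 32, 880), (1141, 50, 880), (1147, 56, 880), (1150, 51, 880)]

theorem cls0_ok : ∀ x ∈ cls0, x.1 < 1152 ∧ x.2.1 < 1152 ∧ x.2.2 ∈ ([16, 5, 288, 576, 592, 864, 880] : List ℕ) ∧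
    mm 0 x.2.1 x.1 = mm 0 x.2.2 x.2.1 := by decide +kernel

theorem cls0_all : ∀ m < 1152, mm 0 m m = 0 → m = 0 ∨ m ∈ cls0.map Prod.fst := by decide +kernel

/-- `(m, c, r)`: `c m c⁻¹ = r` -/
def cls4 : List (ℕ × ℕ × ℕ) :=
  [(5, 0, 5), (6, 64, 5), (7, 672, 5), (9, 192, 5), (10, 288, 5), (11, 320, 5), (13, 96, 5), (14, 384,
  5), (15, 416, 5), (16, 0, 16), (21, 18, 5), (22, 936, 5), (23, 696, 5), (25, 664, 5), (26, 290, 5),
  (27, 760, 5), (29, 114, 5), (30, 386, 5), (31, 728, 5), (288, 0, 288), (291, 17, 288), (300, 20,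
  288), (303, 309, 288), (304, 576, 288), (307, 18, 288), (316, 24, 288), (319, 885, 288), (320, 32,
  288), (322, 1060, 288), (332, 52, 288), (334, 1065, 288), (336, 51, 288), (338, 50, 288), (348, 56,
  288), (350, 1077, 288), (352, 64, 288), (353, 792, 288), (364, 770, 288), (365, 774, 288), (368,
  768, 288), (369, 788, 288), (380, 324, 288), (381, 773, 288), (384, 627, 288), (387, 632, 288),
  (392, 626, 288), (395, 501, 288), (400, 608, 288), (403, 628, 288), (408, 500, 288), (411, 502,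
  288), (416, 128, 288), (418, 1124, 288), (424, 1121, 288), (426, 1129, 288), (432, 1136, 288), (434,
  724, 288), (440, 548, 288), (442, 1141, 288), (448, 512, 288), (449, 514, 288), (456, 519, 288),
  (457, 806, 288), (464, 800, 288), (465, 820, 288), (472, 516, 288), (473, 518, 288), (480, 192,
  288), (483, 664, 288), (484, 212, 288), (487, 197, 288), (496, 640, 288), (499, 660, 288), (500,
  657, 288), (503, 198, 288), (512, 224, 288), (514, 1092, 288), (516, 244, 288), (518, 1094, 288),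
  (528, 243, 288), (530, 242, 288), (532, 737, 288), (534, 1109, 288), (544, 256, 288), (545, 257,
  288), (548, 276, 288), (549, 841, 288), (560, 832, 288), (561, 852, 288), (564, 833, 288), (565,
  837, 288), (576, 0, 576), (581, 290, 576), (586, 289, 576), (591, 876, 576), (592, 288, 576), (597,
  17, 576), (602, 18, 576), (607, 604, 576), (736, 192, 576), (743, 396, 576), (745, 386, 576), (750,
  385, 576), (752, 384, 576), (759, 692, 576), (761, 685, 576), (766, 700, 576), (800, 64, 576), (806,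
  973, 576), (811, 492, 576), (813, 972, 576), (816, 320, 576), (822, 764, 576), (827, 108, 576),
  (829, 749, 576)]

theorem cls4_ok : ∀ x ∈ cls4, x.1 < 1152 ∧ x.2.1 < 1152 ∧ x.2.2 ∈ ([16, 5, 288, 576] : List ℕ) ∧
    mm 4 x.2.1 x.1 = mm 4 x.2.2 x.2.1 := by decide +kernel

theorem cls4_all : ∀ m < 1152, mm 4 m m = 0 → m = 0 ∨ m ∈ cls4.map Prod.fst := by decide +kernel

/-- `(m, c, r)`: `c m c⁻¹ = r` -/
def cls5 : List (ℕ × ℕ × ℕ) :=
  [(5, 0, 5), (6, 64, 5), (7, 688, 5), (9, 192, 5), (10, 304, 5), (11, 336, 5), (13, 112, 5), (14, 400,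
  5), (15, 432, 5), (16, 0, 16), (21, 18, 5), (22, 936, 5), (23, 680, 5), (25, 648, 5), (26, 306, 5),
  (27, 744, 5), (29, 98, 5), (30, 402, 5), (31, 712, 5), (576, 0, 576), (581, 306, 576), (586, 305,
  576), (591, 876, 576), (592, 304, 576), (597, 17, 576), (602, 18, 576), (607, 588, 576), (736, 192,
  576), (743, 412, 576), (745, 402, 576), (750, 401, 576), (752, 400, 576), (759, 676, 576), (761,
  701, 576), (766, 684, 576), (800, 64, 576), (806, 989, 576), (811, 508, 576), (813, 988, 576), (816,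
  336, 576), (822, 748, 576), (827, 124, 576), (829, 765, 576), (864, 0, 864), (870, 18, 864), (873,
  17, 864), (879, 232, 864), (880, 304, 864), (886, 305, 864), (889, 306, 864), (895, 808, 864), (992,
  64, 864), (999, 924, 864), (1002, 907, 864), (1005, 904, 864), (1008, 336, 864), (1015, 344, 864),
  (1018, 338, 864), (1021, 339, 864), (1120, 48, 864), (1125, 34, 864), (1131, 40, 864), (1134, 35,
  864), (1136, 368, 864), (1141, 635, 864), (1147, 620, 864), (1150, 616, 864)]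

theorem cls5_ok : ∀ x ∈ cls5, x.1 < 1152 ∧ x.2.1 < 1152 ∧ x.2.2 ∈ ([16, 5, 576, 864] : List ℕ) ∧
    mm 5 x.2.1 x.1 = mm 5 x.2.2 x.2.1 := by decide +kernel

theorem cls5_all : ∀ m < 1152, mm 5 m m = 0 → m = 0 ∨ m ∈ cls5.map Prod.fst := by decide +kernel

section

variable {G : Type*} [Group G] [Finite G] {Q : Subgroup G} {z i j k l x₁ x₂ y s : G}

theorem conj_rep {t : ℕ} {cls : List (ℕ × ℕ × ℕ)} {reps : List ℕ} (hr : ∀ r ∈ reps, r < 1152)
    (h1 : ∀ x ∈ cls, x.1 < 1152 ∧ x.2.1 < 1152 ∧ x.2.2 ∈ reps ∧ mm t x.2.1 x.1 = mm t x.2.2 x.2.1)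
    (h2 : ∀ m < 1152, mm t m m = 0 → m = 0 ∨ m ∈ cls.map Prod.fst)
    (h : Case9aa Q z i j k l x₁ x₂ y s) (ht : Tw t z y s) {x : G} (hx : x * z = z * x) (hxx : x * x = 1)
    (hx1 : x ≠ 1) : ∃ r ∈ reps, ∃ c, c * z = z * c ∧ c * x * c⁻¹ = F z i j k l x₁ x₂ y s r := by
  obtain ⟨m, hm, rfl⟩ := exists_code h hx
  rcases h2 m hm ((sq_iff h ht hm).1 hxx) with rfl | h3
  · exact absurd F_0 hx1
  · obtain ⟨⟨m', c, r⟩, h4, h5⟩ := List.mem_map.1 h3
    change m' = m at h5
    subst h5
    obtain ⟨-, h7, h8, h9⟩ := h1 _ h4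
    exact ⟨r, h8, F z i j k l x₁ x₂ y s c, F_comm h c, (conj_eq_iff h ht h7 hm (hr r h8)).2 h9⟩

variable (h : Case9aa Q z i j k l x₁ x₂ y s)
include h

/-- twist `0`: classes of involutions of `C_G(z)` -/
theorem class0 (ht : Tw 0 z y s) {x : G} (hx : x * z = z * x) (hxx : x * x = 1) (hx1 : x ≠ 1) :
    ∃ r ∈ ([16, 5, 288, 576, 592, 864, 880] : List ℕ), ∃ c, c * z = z * c ∧ c * x * c⁻¹ = F z i j k l x₁ x₂ y s r :=
  conj_rep (by decide) cls0_ok cls0_all h ht hx hxx hx1

/-- twist `4`: classes of involutions of `C_G(z)` -/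
theorem class4 (ht : Tw 4 z y s) {x : G} (hx : x * z = z * x) (hxx : x * x = 1) (hx1 : x ≠ 1) :
    ∃ r ∈ ([16, 5, 288, 576] : List ℕ), ∃ c, c * z = z * c ∧ c * x * c⁻¹ = F z i j k l x₁ x₂ y s r :=
  conj_rep (by decide) cls4_ok cls4_all h ht hx hxx hx1

/-- twist `5`: classes of involutions of `C_G(z)` -/
theorem class5 (ht : Tw 5 z y s) {x : G} (hx : x * z = z * x) (hxx : x * x = 1) (hx1 : x ≠ 1) :
    ∃ r ∈ ([16, 5, 576, 864] : List ℕ), ∃ c, c * z = z * c ∧ c * x * c⁻¹ = F z i j k l x₁ x₂ y s r :=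
  conj_rep (by decide) cls5_ok cls5_all h ht hx hxx hx1

end

/-! ### the class of the non-central involutions of `Q`, for all twists -/

/-- `c m c⁻¹ = 5` for the involutions `m ∈ Q − {z}` -/
def clsQ : List (ℕ × ℕ) := [(5, 0), (6, 64), (7, 32), (9, 192), (10, 256), (11, 224), (13, 96), (14, 160), (15, 128), (21, 2), (22, 66), (23, 34), (25, 194), (26, 258), (27, 226), (29, 98), (30, 162), (31, 130)]

theorem clsQ_ok : ∀ t < 8, ∀ x ∈ clsQ, x.1 < 1152 ∧ x.2 < 1152 ∧ mm t x.2 x.1 = mm t 5 x.2 := by decide +kernel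

theorem clsQ_all : ∀ t < 8, ∀ m < 32, mm t m m = 0 → m = 0 ∨ m = 16 ∨ m ∈ clsQ.map Prod.fst := by decide +kernel

section

variable {G : Type*} [Group G] [Finite G] {Q : Subgroup G} {z i j k l x₁ x₂ y s : G}

/-- the non-central involutions of `Q` are conjugate to `i k` in `C_G(z)` -/
theorem exists_conj_ik (h : Case9aa Q z i j k l x₁ x₂ y s) {x : G} (hx : x ∈ Q) (hxx : x * x = 1)
    (h1 : x ≠ 1) (hz : x ≠ z) : ∃ c, c * z = z * c ∧ c * x * c⁻¹ = i * k := by
  obtain ⟨t, ht8, ht⟩ := exists_tw h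
  obtain ⟨m, hm, rfl⟩ := exists_code h (h.large.comm_z x hx)
  rw [mem_Q_iff h hm] at hx
  rcases clsQ_all t ht8 m hx ((sq_iff h ht hm).1 hxx) with rfl | rfl | h3
  · exact absurd F_0 h1
  · exact absurd F_16 hz
  · obtain ⟨⟨m', c⟩, h4, h5⟩ := List.mem_map.1 h3
    change m' = m at h5
    subst h5
    obtain ⟨-, h7, h8⟩ := clsQ_ok t ht8 _ h4
    refine ⟨F z i j k l x₁ x₂ y s c, F_comm h c, ?_⟩
    rw [(conj_eq_iff h ht h7 hm (by norm_num)).2 h8, F_5]

end

end Cfsg.Agent.SmallExtra438.ClassA
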