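import Cfsg.Agent.SmallExtra438.Model

/-!
# Coordinates of `C_G(z)` in the case `9a` of S1759 (helper438)
-/

set_option autoImplicit false

namespace Cfsg.Agent.SmallExtra438.Frame

open Cfsg.Agent.LargeExtra.Model Cfsg.Agent.LargeExtra.Pres Cfsg.Agent.LargeExtra.Models
open Cfsg.Agent.LargeExtra.W2 Cfsg.Agent.SmallExtra438.Model

section

variable {G : Type*} [Group G] {Q : Subgroup G} {z i j k l x₁ x₂ s : G}

/-- generators of `Q` -/
def gn (i j k l : G) : ℕ → G := fun n => [i, j, k, l].getD n 1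

/-- the element of `Q` with code `x` -/
def L (z i j k l : G) (x : ℕ) : G := zp z (x.testBit 4) * prd (gn i j k l) 4 (x % 16)

/-- `x₁ ^ a x₂ ^ b s ^ e` -/
def kap (x₁ x₂ s : G) (n : ℕ) : G := x₁ ^ (n % 3) * x₂ ^ (n / 3 % 3) * s ^ (n / 9)

/-- the element of `C_G(z)` with code `m` -/
def F (z i j k l x₁ x₂ s : G) (m : ℕ) : G := L z i j k l (m % 32) * kap x₁ x₂ s (m / 32)

theorem rels (h : Plus Q z i j k l) : Rels rP4 4 z (gn i j k l) where
  zz := h.large.z_sq
  comm := by
    have hQ : ∀ g ∈ ({i, j, k, l} : Set G), g ∈ Q := fun g hg => h.gen ▸ Subgroup.subset_closure hg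
    intro n hn
    have hm : gn i j k l n ∈ Q := by
      apply hQ
      interval_cases n <;> simp [gn]
    exact h.large.comm_z _ hm
  sq := by
    intro n hn
    interval_cases n
    · exact h.ii
    · exact h.jj
    · exact h.kk
    · exact h.ll
  cm := by
    have hQ : ∀ g ∈ ({i, j, k, l} : Set G), g * z = z * g := fun g hg =>
      h.large.comm_z _ (h.gen ▸ Subgroup.subset_closure hg)
    have hi := hQ i (by simp)
    have hj := hQ j (by simp)
    have hk := hQ k (by simp)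
    have hl := hQ l (by simp)
    intro n hn m hm
    interval_cases n
    · omega
    · interval_cases m
      change j * i = z * (i * j)
      rw [h.ji, mul_assoc, hj, ← mul_assoc, hi, mul_assoc]
    · interval_cases m
      · change k * i = 1 * (i * k)
        rw [one_mul, h.ki]
      · change k * j = 1 * (j * k)
        rw [one_mul, h.kj]
    · interval_cases m
      · change l * i = 1 * (i * l)
        rw [one_mul, h.li]
      · change l * j = 1 * (j * l)
        rw [one_mul, h.lj]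
      · change l * k = z * (k * l)
        rw [h.lk, mul_assoc, hl, ← mul_assoc, hk, mul_assoc]

theorem L_eq (h : Plus Q z i j k l) (x : ℕ) : L z i j k l x = lift (rels h) tri_P4 (toX x) := rfl

theorem L_mul (h : Plus Q z i j k l) {x y : ℕ} (hx : x < 32) (hy : y < 32) :
    L z i j k l (qm x y) = L z i j k l x * L z i j k l y := by
  rw [L_eq h, L_eq h, L_eq h, toX_qm x hx y hy, map_mul]

theorem L_bits (x : ℕ) (b0 b1 b2 b3 b4 : Bool) (hb : (x % 16).testBit 0 = b0 ∧ (x % 16).testBit 1 = b1 ∧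
    (x % 16).testBit 2 = b2 ∧ (x % 16).testBit 3 = b3 ∧ x.testBit 4 = b4) :
    L z i j k l x = zp z b4 * (zp i b0 * zp j b1 * zp k b2 * zp l b3) := by
  obtain ⟨rfl, rfl, rfl, rfl, rfl⟩ := hb
  simp only [L, prd, one_mul]
  rfl

theorem L_0 : L z i j k l 0 = 1 := by
  rw [L_bits 0 false false false false false (by decide)]; simp [zp]

theorem L_16 : L z i j k l 16 = z := by
  rw [L_bits 16 false false false false true (by decide)]; simp [zp]

theorem L_1 : L z i j k l 1 = i := by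
  rw [L_bits 1 true false false false false (by decide)]; simp [zp]

theorem L_2 : L z i j k l 2 = j := by
  rw [L_bits 2 false true false false false (by decide)]; simp [zp]

theorem L_4 : L z i j k l 4 = k := by
  rw [L_bits 4 false false true false false (by decide)]; simp [zp]

theorem L_8 : L z i j k l 8 = l := by
  rw [L_bits 8 false false false true false (by decide)]; simp [zp]

theorem L_3 : L z i j k l 3 = i * j := by
  rw [L_bits 3 true true false false false (by decide)]; simp [zp]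

theorem L_12 : L z i j k l 12 = k * l := by
  rw [L_bits 12 false false true true false (by decide)]; simp [zp]

theorem L_5 : L z i j k l 5 = i * k := by
  rw [L_bits 5 true false true false false (by decide)]; simp [zp]

theorem L_10 : L z i j k l 10 = j * l := by
  rw [L_bits 10 false true false true false (by decide)]; simp [zp]

theorem L_15 : L z i j k l 15 = i * j * k * l := by
  rw [L_bits 15 true true true true false (by decide)]; simp [zp]

/-! ### conjugation -/

theorem conj_lift (h : Plus Q z i j k l) {c : G} (hz : c * z * c⁻¹ = z) {I : ℕ → XG rP4 4}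
    (hI : Good rP4 4 I)
    (hc : ∀ n : Fin 4, c * gn i j k l n * c⁻¹ = lift (rels h) tri_P4 (I n)) (g : XG rP4 4) :
    c * lift (rels h) tri_P4 g * c⁻¹ = lift (rels h) tri_P4 (lift hI.rels tri_P4 g) := by
  have h1 : (MulAut.conj c).toMonoidHom.comp (lift (rels h) tri_P4) =
      (lift (rels h) tri_P4).comp (lift hI.rels tri_P4) := by
    apply hom_ext
    · change c * lift (rels h) tri_P4 zz * c⁻¹ = lift (rels h) tri_P4 (lift hI.rels tri_P4 zz)
      rw [lift_zz, lift_zz, lift_zz, hz]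
    · intro n
      change c * lift (rels h) tri_P4 (q rP4 4 n) * c⁻¹ =
        lift (rels h) tri_P4 (lift hI.rels tri_P4 (q rP4 4 n))
      rw [lift_q, lift_q, hc]
  exact congrArg (fun f : XG rP4 4 →* G => f g) h1

theorem conj_L (h : Plus Q z i j k l) {c : G} (hz : c * z * c⁻¹ = z) {I : ℕ → XG rP4 4}
    (hI : Good rP4 4 I) {T : ℕ} (hT : ∀ x < 32, lift hI.rels tri_P4 (toX x) = toX (app T x))
    (hc : ∀ n : Fin 4, c * gn i j k l n * c⁻¹ = lift (rels h) tri_P4 (I n)) {x : ℕ} (hx : x < 32) :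
    c * L z i j k l x = L z i j k l (app T x) * c := by
  have h1 := conj_lift h hz hI hc (toX x)
  rw [hT x hx, ← L_eq h, ← L_eq h] at h1
  rw [← h1]; group

variable (h : Case9a Q z i j k l x₁ x₂ s)
include h

theorem conj1 {x : ℕ} (hx : x < 32) : x₁ * L z i j k l x = L z i j k l (app T1 x) * x₁ := by
  refine conj_L h.toPlus h.x₁_act.z good1 lift1 (fun n => ?_) hx
  fin_cases n
  · change x₁ * i * x₁⁻¹ = L z i j k l 2
    rw [L_2]; exact h.x₁_act.i
  · change x₁ * j * x₁⁻¹ = L z i j k l 3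
    rw [L_3]; exact h.x₁_act.j
  · change x₁ * k * x₁⁻¹ = L z i j k l 4
    rw [L_4]; exact h.x₁_act.k
  · change x₁ * l * x₁⁻¹ = L z i j k l 8
    rw [L_8]; exact h.x₁_act.l

theorem conj2 {x : ℕ} (hx : x < 32) : x₂ * L z i j k l x = L z i j k l (app T2 x) * x₂ := by
  refine conj_L h.toPlus h.x₂_act.z good2 lift2 (fun n => ?_) hx
  fin_cases n
  · change x₂ * i * x₂⁻¹ = L z i j k l 1
    rw [L_1]; exact h.x₂_act.i
  · change x₂ * j * x₂⁻¹ = L z i j k l 2
    rw [L_2]; exact h.x₂_act.j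
  · change x₂ * k * x₂⁻¹ = L z i j k l 8
    rw [L_8]; exact h.x₂_act.k
  · change x₂ * l * x₂⁻¹ = L z i j k l 12
    rw [L_12]; exact h.x₂_act.l

theorem conjs {x : ℕ} (hx : x < 32) : s * L z i j k l x = L z i j k l (app Ts x) * s := by
  refine conj_L h.toPlus h.s_act.z goods lifts (fun n => ?_) hx
  fin_cases n
  · change s * i * s⁻¹ = L z i j k l 4
    rw [L_4]; exact h.s_act.i
  · change s * j * s⁻¹ = L z i j k l 8
    rw [L_8]; exact h.s_act.j
  · change s * k * s⁻¹ = L z i j k l 1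
    rw [L_1]; exact h.s_act.k
  · change s * l * s⁻¹ = L z i j k l 2
    rw [L_2]; exact h.s_act.l

omit h in
theorem conj_pow_aux {c : G} {T : ℕ} (hT : ∀ x < 32, app T x < 32)
    (hc : ∀ x < 32, c * L z i j k l x = L z i j k l (app T x) * c) (n : ℕ) :
    ∀ x < 32, (app T)^[n] x < 32 ∧ c ^ n * L z i j k l x = L z i j k l ((app T)^[n] x) * c ^ n := by
  induction n with
  | zero => intro x hx; exact ⟨hx, by simp⟩
  | succ n ih =>
    intro x hx
    obtain ⟨h1, h2⟩ := ih _ (hT x hx)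
    refine ⟨h1, ?_⟩
    rw [Function.iterate_succ_apply, pow_succ, mul_assoc, hc x hx, ← mul_assoc, h2, mul_assoc]

theorem kap_L {n x : ℕ} (hn : n < 18) (hx : x < 32) :
    kap x₁ x₂ s n * L z i j k l x = L z i j k l (act n x) * kap x₁ x₂ s n := by
  obtain ⟨hs1, hs2⟩ := conj_pow_aux (fun x hx => (app_lt x hx).2.2) (fun x hx => conjs h hx) (n / 9) x hx
  obtain ⟨h21, h22⟩ := conj_pow_aux (fun x hx => (app_lt x hx).2.1) (fun x hx => conj2 h hx) (n / 3 % 3) _ hs1
  obtain ⟨h11, h12⟩ := conj_pow_aux (fun x hx => (app_lt x hx).1) (fun x hx => conj1 h hx) (n % 3) _ h21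
  rw [act_eq n hn x hx, kap, mul_assoc, hs2, ← mul_assoc, mul_assoc (x₁ ^ (n % 3)), h22,
    ← mul_assoc (x₁ ^ (n % 3)), h12]
  group

omit h in
theorem kap_of {A B E : ℕ} (hA : A < 3) (hB : B < 3) :
    kap x₁ x₂ s (A + 3 * B + 9 * E) = x₁ ^ A * x₂ ^ B * s ^ E := by
  have h1 : (A + 3 * B + 9 * E) % 3 = A := by omega
  have h2 : (A + 3 * B + 9 * E) / 3 % 3 = B := by omega
  have h3 : (A + 3 * B + 9 * E) / 9 = E := by omega
  rw [kap, h1, h2, h3]

omit h in
theorem pow_mod_three {x : G} (hx : x ^ 3 = 1) (n : ℕ) : x ^ (n % 3) = x ^ n := by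
  conv_rhs => rw [← Nat.div_add_mod n 3, pow_add, pow_mul, hx, one_pow, one_mul]

theorem s_pow1 (n : ℕ) : s * x₁ ^ n = x₂ ^ n * s := by
  have h1 : s * x₁ ^ n * s⁻¹ = x₂ ^ n := by rw [← conj_pow, h.s1]
  rw [← h1]; group

theorem s_pow2 (n : ℕ) : s * x₂ ^ n = x₁ ^ n * s := by
  have h1 : s * x₂ ^ n * s⁻¹ = x₁ ^ n := by rw [← conj_pow, h.s2]
  rw [← h1]; group

theorem kap_mul {t : ℕ} (hs : s * s = L z i j k l t) {n n' : ℕ} (hn : n < 18) (hn' : n' < 18) :
    kap x₁ x₂ s n * kap x₁ x₂ s n' = L z i j k l (t * (n / 9 * (n' / 9))) * kap x₁ x₂ s (km n n') := by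
  have hxx : ∀ a b : ℕ, x₂ ^ a * x₁ ^ b = x₁ ^ b * x₂ ^ a := fun a b =>
    ((show Commute x₁ x₂ from h.xx).pow_pow b a).eq.symm
  by_cases h9 : n < 9
  · have e0 : n / 9 = 0 := by omega
    rw [e0, km, if_pos h9, kap_of (Nat.mod_lt _ (by norm_num)) (Nat.mod_lt _ (by norm_num)),
      pow_mod_three h.x₁3, pow_mod_three h.x₂3, zero_mul, mul_zero, L_0, one_mul]
    simp only [kap]
    rw [e0, pow_zero, mul_one, pow_add, pow_add]
    calc x₁ ^ (n % 3) * x₂ ^ (n / 3 % 3) * (x₁ ^ (n' % 3) * x₂ ^ (n' / 3 % 3) * s ^ (n' / 9))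
        = x₁ ^ (n % 3) * (x₂ ^ (n / 3 % 3) * x₁ ^ (n' % 3)) * (x₂ ^ (n' / 3 % 3) * s ^ (n' / 9)) := by
          group
      _ = x₁ ^ (n % 3) * (x₁ ^ (n' % 3) * x₂ ^ (n / 3 % 3)) * (x₂ ^ (n' / 3 % 3) * s ^ (n' / 9)) := by
          rw [hxx]
      _ = _ := by simp only [mul_assoc]
  · have e1 : n / 9 = 1 := by omega
    have hss : s * s ^ (n' / 9) = L z i j k l (t * (n' / 9)) * s ^ ((1 + n' / 9) % 2) := by
      have : n' / 9 = 0 ∨ n' / 9 = 1 := by omega
      rcases this with h0 | h0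
      · rw [h0]; simp [L_0]
      · rw [h0]; simp [hs]
    -- `L t` is central
    have hc : ∀ (a b : ℕ), x₁ ^ a * x₂ ^ b * L z i j k l (t * (n' / 9)) =
        L z i j k l (t * (n' / 9)) * (x₁ ^ a * x₂ ^ b) := by
      intro a b
      have hz1 : Commute x₁ (s * s) := by
        have h1 : s * s * x₁ = x₁ * (s * s) := by
          have h2 := s_pow1 h 1
          have h3 := s_pow2 h 1
          rw [pow_one, pow_one] at h2 h3
          rw [mul_assoc, h2, ← mul_assoc, h3, mul_assoc]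
        exact h1.symm
      have hz2 : Commute x₂ (s * s) := by
        have h1 : s * s * x₂ = x₂ * (s * s) := by
          have h2 := s_pow1 h 1
          have h3 := s_pow2 h 1
          rw [pow_one, pow_one] at h2 h3
          rw [mul_assoc, h3, ← mul_assoc, h2, mul_assoc]
        exact h1.symm
      have : n' / 9 = 0 ∨ n' / 9 = 1 := by omega
      rcases this with h0 | h0
      · rw [h0, mul_zero, L_0]; simp
      · rw [h0, mul_one, ← hs]
        exact ((hz1.pow_left a).mul_left (hz2.pow_left b)).eq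
    rw [e1, km, if_neg h9, kap_of (Nat.mod_lt _ (by norm_num)) (Nat.mod_lt _ (by norm_num)),
      pow_mod_three h.x₁3, pow_mod_three h.x₂3, one_mul]
    simp only [kap]
    rw [e1, pow_one, pow_add, pow_add]
    calc x₁ ^ (n % 3) * x₂ ^ (n / 3 % 3) * s * (x₁ ^ (n' % 3) * x₂ ^ (n' / 3 % 3) * s ^ (n' / 9))
        = x₁ ^ (n % 3) * x₂ ^ (n / 3 % 3) * (s * x₁ ^ (n' % 3)) * (x₂ ^ (n' / 3 % 3) * s ^ (n' / 9)) := by
          group
      _ = x₁ ^ (n % 3) * x₂ ^ (n / 3 % 3) * x₂ ^ (n' % 3) * (s * x₂ ^ (n' / 3 % 3)) * s ^ (n' / 9) := by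
          rw [s_pow1 h]; group
      _ = x₁ ^ (n % 3) * (x₂ ^ (n / 3 % 3) * x₂ ^ (n' % 3)) * x₁ ^ (n' / 3 % 3) * (s * s ^ (n' / 9)) := by
          rw [s_pow2 h]; group
      _ = x₁ ^ (n % 3) * ((x₂ ^ (n / 3 % 3) * x₂ ^ (n' % 3)) * x₁ ^ (n' / 3 % 3)) *
          (L z i j k l (t * (n' / 9)) * s ^ ((1 + n' / 9) % 2)) := by
          rw [hss]; group
      _ = x₁ ^ (n % 3) * (x₁ ^ (n' / 3 % 3) * (x₂ ^ (n / 3 % 3) * x₂ ^ (n' % 3))) *
          (L z i j k l (t * (n' / 9)) * s ^ ((1 + n' / 9) % 2)) := by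
          rw [← pow_add x₂, hxx, pow_add]
      _ = ((x₁ ^ (n % 3 + n' / 3 % 3) * x₂ ^ (n / 3 % 3 + n' % 3)) * L z i j k l (t * (n' / 9))) *
            s ^ ((1 + n' / 9) % 2) := by
          rw [pow_add, pow_add]; simp only [mul_assoc]
      _ = _ := by
          rw [hc, pow_add, pow_add]; simp only [mul_assoc]

omit h in
theorem qm_t' : ∀ x < 32, ∀ t ∈ [0, 16], qm x t = x ^^^ t ∧ x ^^^ t < 32 := by decide +kernel

omit h in
theorem qm_t (x : ℕ) (hx : x < 32) (t : ℕ) (ht : t = 0 ∨ t = 16) : qm x t = x ^^^ t ∧ x ^^^ t < 32 := by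
  rcases ht with rfl | rfl
  · exact qm_t' x hx 0 (by simp)
  · exact qm_t' x hx 16 (by simp)

omit h in
theorem km_lt : ∀ n < 18, ∀ n' < 18, km n n' < 18 := by decide +kernel

omit h in
theorem mm_lt {t : ℕ} (ht : t = 0 ∨ t = 16) {m n : ℕ} (hm : m < 576) (hn : n < 576) : mm t m n < 576 := by
  have h1 : act (m / 32) (n % 32) < 32 := act_lt _ (by omega) _ (by omega)
  have h2 : qm (m % 32) (act (m / 32) (n % 32)) < 32 := qm_lt _ (by omega) _ h1
  have h4 : t * ((m / 32) / 9 * ((n / 32) / 9)) = 0 ∨ t * ((m / 32) / 9 * ((n / 32) / 9)) = 16 := by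
    have e1 : m / 32 / 9 = 0 ∨ m / 32 / 9 = 1 := by omega
    have e2 : n / 32 / 9 = 0 ∨ n / 32 / 9 = 1 := by omega
    rcases ht with rfl | rfl <;> rcases e1 with e1 | e1 <;> rcases e2 with e2 | e2 <;> simp [e1, e2]
  have h5 := (qm_t _ h2 _ h4).2
  have h3 := km_lt (m / 32) (by omega) (n / 32) (by omega)
  unfold mm
  omega

theorem F_mul {t : ℕ} (ht : t = 0 ∨ t = 16) (hs : s * s = L z i j k l t) {m n : ℕ} (hm : m < 576)
    (hn : n < 576) :
    F z i j k l x₁ x₂ s (mm t m n) = F z i j k l x₁ x₂ s m * F z i j k l x₁ x₂ s n := by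
  have h1 : act (m / 32) (n % 32) < 32 := act_lt _ (by omega) _ (by omega)
  have h2 : qm (m % 32) (act (m / 32) (n % 32)) < 32 := qm_lt _ (by omega) _ h1
  have h4 : t * ((m / 32) / 9 * ((n / 32) / 9)) = 0 ∨ t * ((m / 32) / 9 * ((n / 32) / 9)) = 16 := by
    have e1 : m / 32 / 9 = 0 ∨ m / 32 / 9 = 1 := by omega
    have e2 : n / 32 / 9 = 0 ∨ n / 32 / 9 = 1 := by omega
    rcases ht with rfl | rfl <;> rcases e1 with e1 | e1 <;> rcases e2 with e2 | e2 <;> simp [e1, e2]
  have h4' : t * ((m / 32) / 9 * ((n / 32) / 9)) < 32 := by omega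
  obtain ⟨h6, h5⟩ := qm_t _ h2 _ h4
  have h7 : mm t m n % 32 = qm (m % 32) (act (m / 32) (n % 32)) ^^^
      t * ((m / 32) / 9 * ((n / 32) / 9)) := by
    unfold mm; omega
  have h8 : mm t m n / 32 = km (m / 32) (n / 32) := by
    unfold mm; omega
  unfold F
  rw [h7, h8, ← h6, L_mul h.toPlus h2 h4', L_mul h.toPlus (by omega) h1]
  have h9 := kap_mul h hs (n := m / 32) (n' := n / 32) (by omega) (by omega)
  have h10 := kap_L h (n := m / 32) (x := n % 32) (by omega) (by omega)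
  calc _ = L z i j k l (m % 32) * L z i j k l (act (m / 32) (n % 32)) *
        (L z i j k l (t * ((m / 32) / 9 * ((n / 32) / 9))) * kap x₁ x₂ s (km (m / 32) (n / 32))) := by
        group
    _ = L z i j k l (m % 32) * (L z i j k l (act (m / 32) (n % 32)) * kap x₁ x₂ s (m / 32)) *
        kap x₁ x₂ s (n / 32) := by rw [← h9]; group
    _ = _ := by rw [← h10]; group

omit h in
theorem F_lt {m : ℕ} (hm : m < 32) : F z i j k l x₁ x₂ s m = L z i j k l m := by
  have h1 : m % 32 = m := by omega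
  have h2 : m / 32 = 0 := by omega
  simp [F, h1, h2, kap]

omit h in
theorem F_0 : F z i j k l x₁ x₂ s 0 = 1 := by rw [F_lt (by norm_num), L_0]

omit h in
theorem F_5 : F z i j k l x₁ x₂ s 5 = i * k := by rw [F_lt (by norm_num), L_5]

omit h in
theorem F_10 : F z i j k l x₁ x₂ s 10 = j * l := by rw [F_lt (by norm_num), L_10]

omit h in
theorem F_15 : F z i j k l x₁ x₂ s 15 = i * j * k * l := by rw [F_lt (by norm_num), L_15]

omit h in
theorem F_16 : F z i j k l x₁ x₂ s 16 = z := by rw [F_lt (by norm_num), L_16]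

omit h in
theorem F_288 : F z i j k l x₁ x₂ s 288 = s := by simp [F, L_0, kap]

omit h in
theorem F_304 : F z i j k l x₁ x₂ s 304 = z * s := by simp [F, L_16, kap]

omit h in
theorem F_32 : F z i j k l x₁ x₂ s 32 = x₁ := by simp [F, L_0, kap]

omit h in
theorem F_96 : F z i j k l x₁ x₂ s 96 = x₂ := by simp [F, L_0, kap]

theorem exists_t : ∃ t, (t = 0 ∨ t = 16) ∧ s * s = L z i j k l t := by
  rcases h.ss with h1 | h1
  · exact ⟨0, Or.inl rfl, by rw [L_0, h1]⟩
  · exact ⟨16, Or.inr rfl, by rw [L_16, h1]⟩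

/-- every element of `C_G(z)` has a code -/
theorem exists_code [Finite G] {c : G} (hc : c * z = z * c) : ∃ m < 576, F z i j k l x₁ x₂ s m = c := by
  obtain ⟨t, ht, hs⟩ := exists_t h
  let K₀ : Submonoid G :=
    { carrier := {g | ∃ m < 576, F z i j k l x₁ x₂ s m = g}
      one_mem' := ⟨0, by norm_num, F_0⟩
      mul_mem' := by
        rintro _ _ ⟨m, hm, rfl⟩ ⟨n, hn, rfl⟩
        exact ⟨mm t m n, mm_lt ht hm hn, F_mul h ht hs hm hn⟩ }
  let K : Subgroup G :=
    { K₀ with
      inv_mem' := by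
        intro g hg
        have h1 : g⁻¹ = g ^ (orderOf g - 1) := by
          rw [inv_eq_iff_mul_eq_one, ← pow_succ', Nat.sub_add_cancel (orderOf_pos g),
            pow_orderOf_eq_one]
        rw [h1]
        exact K₀.pow_mem hg _ }
  have hle : Subgroup.centralizer ({z} : Set G) ≤ K := by
    rw [h.cent, Subgroup.closure_le]
    rintro g hg
    simp only [Set.mem_insert_iff, Set.mem_singleton_iff] at hg
    rcases hg with rfl | rfl | rfl | rfl | rfl | rfl | rfl
    · exact ⟨1, by norm_num, by rw [F_lt (by norm_num), L_1]⟩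
    · exact ⟨2, by norm_num, by rw [F_lt (by norm_num), L_2]⟩
    · exact ⟨4, by norm_num, by rw [F_lt (by norm_num), L_4]⟩
    · exact ⟨8, by norm_num, by rw [F_lt (by norm_num), L_8]⟩
    · exact ⟨32, by norm_num, F_32⟩
    · exact ⟨96, by norm_num, F_96⟩
    · exact ⟨288, by norm_num, F_288⟩
  exact hle (Subgroup.mem_centralizer_singleton_iff.2 hc)

theorem F_comm {m : ℕ} (hm : m < 576) : F z i j k l x₁ x₂ s m * z = z * F z i j k l x₁ x₂ s m := by
  have hQ : ∀ g ∈ Q, g * z = z * g := h.large.comm_z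
  have hL : L z i j k l (m % 32) * z = z * L z i j k l (m % 32) := by
    have h1 := L_mul h.toPlus (x := m % 32) (y := 16) (by omega) (by norm_num)
    have h2 := L_mul h.toPlus (x := 16) (y := m % 32) (by norm_num) (by omega)
    have h3 : ∀ x < 32, qm x 16 = qm 16 x := by decide +kernel
    rw [L_16] at h1 h2
    rw [← h1, ← h2, h3 _ (by omega)]
  have e1 : Commute x₁ z := by
    have := h.x₁_act.z
    change x₁ * z = z * x₁
    calc x₁ * z = (x₁ * z * x₁⁻¹) * x₁ := by group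
      _ = z * x₁ := by rw [this]
  have e2 : Commute x₂ z := by
    have := h.x₂_act.z
    change x₂ * z = z * x₂
    calc x₂ * z = (x₂ * z * x₂⁻¹) * x₂ := by group
      _ = z * x₂ := by rw [this]
  have e3 : Commute s z := by
    have := h.s_act.z
    change s * z = z * s
    calc s * z = (s * z * s⁻¹) * s := by group
      _ = z * s := by rw [this]
  have e4 : Commute (kap x₁ x₂ s (m / 32)) z := by
    unfold kap
    exact ((e1.pow_left _).mul_left (e2.pow_left _)).mul_left (e3.pow_left _)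
  have e5 : Commute (L z i j k l (m % 32)) z := hL
  exact (e5.mul_left e4).eq

theorem F_inj [Finite G] {m n : ℕ} (hm : m < 576) (hn : n < 576)
    (he : F z i j k l x₁ x₂ s m = F z i j k l x₁ x₂ s n) : m = n := by
  let f : Fin 576 → Subgroup.centralizer ({z} : Set G) := fun m =>
    ⟨F z i j k l x₁ x₂ s m, Subgroup.mem_centralizer_singleton_iff.2 (F_comm h m.2)⟩
  have hf : Function.Surjective f := by
    rintro ⟨c, hc⟩
    obtain ⟨m, hm, rfl⟩ := exists_code h (Subgroup.mem_centralizer_singleton_iff.1 hc)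
    exact ⟨⟨m, hm⟩, rfl⟩
  have hb : Function.Bijective f := by
    rw [Nat.bijective_iff_surjective_and_card]
    exact ⟨hf, by rw [h.card_cent, Nat.card_eq_fintype_card, Fintype.card_fin]⟩
  have h1 : (⟨m, hm⟩ : Fin 576) = ⟨n, hn⟩ := hb.1 (Subtype.ext he)
  exact congrArg Fin.val h1

/-- codes of the elements of `Q` -/
theorem mem_Q_iff [Finite G] {m : ℕ} (hm : m < 576) : F z i j k l x₁ x₂ s m ∈ Q ↔ m < 32 := by
  have hcode : ∀ g ∈ Q, ∃ n < 32, F z i j k l x₁ x₂ s n = g := by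
    intro g hg
    have h1 : Q ≤ (lift (rels h.toPlus) tri_P4).range := by
      conv_lhs => rw [h.gen]
      rw [Subgroup.closure_le]
      rintro g hg
      simp only [Set.mem_insert_iff, Set.mem_singleton_iff] at hg
      rcases hg with rfl | rfl | rfl | rfl
      · exact ⟨toX 1, by rw [← L_eq h.toPlus, L_1]⟩
      · exact ⟨toX 2, by rw [← L_eq h.toPlus, L_2]⟩
      · exact ⟨toX 4, by rw [← L_eq h.toPlus, L_4]⟩
      · exact ⟨toX 8, by rw [← L_eq h.toPlus, L_8]⟩
    obtain ⟨x, hx⟩ := h1 hg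
    obtain ⟨n, hn, rfl⟩ := toX_surj x
    exact ⟨n, hn, by rw [F_lt hn, L_eq h.toPlus, hx]⟩
  constructor
  · intro hg
    obtain ⟨n, hn, hnm⟩ := hcode _ hg
    rw [← F_inj h (by omega) hm hnm]; exact hn
  · intro hm'
    rw [F_lt hm']
    have hQ : ∀ g ∈ ({i, j, k, l} : Set G), g ∈ Q := fun g hg => h.gen ▸ Subgroup.subset_closure hg
    have hzp : ∀ (g : G) (b : Bool), g ∈ Q → zp g b ∈ Q := by
      intro g b hg
      cases b
      · exact one_mem Q
      · exact hg
    rw [L_bits m _ _ _ _ _ ⟨rfl, rfl, rfl, rfl, rfl⟩]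
    refine mul_mem (hzp _ _ h.large.z_mem) (mul_mem (mul_mem (mul_mem ?_ ?_) ?_) ?_) <;>
      exact hzp _ _ (hQ _ (by simp))

end

end Cfsg.Agent.SmallExtra438.Frame
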