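import Cfsg.Agent.LargeExtra.W2.Iface
import Cfsg.Agent.LargeExtra.Models

/-!
# A decidable model of `C_G(z)` in the case `9a` of S1759 (helper438)

Elements of `C_G(z)` (order 576) are coded by `m < 576`, `m = q + 32 k`, `q < 32` an element of `Q`
(bits `0..3` = `i, j, k, l`, bit `4` = `z`), `k = a + 3 b + 9 e` the element `x₁ ^ a x₂ ^ b s ^ e`; `mm t` is the
multiplication, `t = 0` for `s² = 1` and `t = 16` for `s² = z`.
-/

set_option autoImplicit false

namespace Cfsg.Agent.SmallExtra438.Model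

open Cfsg.Agent.LargeExtra.Model Cfsg.Agent.LargeExtra.Pres Cfsg.Agent.LargeExtra.Models
open Cfsg.Agent.LargeExtra.W2

/-- parity of a number `< 16` -/
def par (n : ℕ) : ℕ := (27030 >>> n) % 2

/-- multiplication of `Q` -/
def qm (x y : ℕ) : ℕ := (x ^^^ y) ^^^ (16 * par (((x % 16) ^^^ ((x &&& 10) / 2)) &&& (y % 16)))

/-- an automorphism of `Q` given by a table -/
def app (T x : ℕ) : ℕ := ((T >>> (5 * (x % 16))) % 32) ^^^ (x &&& 16)

def T1 : ℕ := 509365669426214901681216
def T2 : ℕ := 271725708557294084655136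
def Ts : ℕ := 579932714829713803452544

def TT : ℕ := 9698326780722334225557405700200780331808355100574344897553392864218535650208272095098762835968488126888821987030130806591243043237135644161129738995116326545320167814346696555480033469380808527701990142723987638610813690864223359430629722162216072573067677577758497503020154154882603416667818277305940508532097798685818574915203750992142525771167426743645987297395975285598638804159175630717766685686082248619474733190447764137412640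

/-- the action of `x₁ ^ a x₂ ^ b s ^ e` on `Q` -/
def act (k x : ℕ) : ℕ := ((TT >>> (80 * k + 5 * (x % 16))) % 32) ^^^ (x &&& 16)

/-- multiplication of the `x₁ ^ a x₂ ^ b s ^ e` -/
def km (k k' : ℕ) : ℕ :=
  if k < 9 then (k % 3 + k' % 3) % 3 + 3 * ((k / 3 % 3 + k' / 3 % 3) % 3) + 9 * (k' / 9)
  else (k % 3 + k' / 3 % 3) % 3 + 3 * ((k / 3 % 3 + k' % 3) % 3) + 9 * ((1 + k' / 9) % 2)

/-- multiplication of the model -/
def mm (t m m' : ℕ) : ℕ :=
  ((qm (m % 32) (act (m / 32) (m' % 32))) ^^^ (t * ((m / 32) / 9 * ((m' / 32) / 9)))) +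
    32 * km (m / 32) (m' / 32)

abbrev rP4 : ℕ → ℕ := rows [1, 3, 4, 12]

theorem nd_P4 : Nondeg rP4 4 := by decide +kernel
theorem tri_P4 : Tri rP4 4 := by decide +kernel

/-- the element of the `XG` model -/
def toX (x : ℕ) : XG rP4 4 := ⟨⟨x % 16, Nat.mod_lt _ (by norm_num)⟩, x.testBit 4⟩

instance : DecidableEq (XG rP4 4) := fun x y =>
  decidable_of_iff (x.v.1 = y.v.1 ∧ x.s = y.s) ⟨fun h => XG.ext' h.1 h.2, fun h => by rw [h]; exact ⟨rfl, rfl⟩⟩

theorem toX_qm : ∀ x < 32, ∀ y < 32, toX (qm x y) = toX x * toX y := by decide +kernel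

/-! ### the actions -/

theorem act_lt : ∀ k < 18, ∀ x < 32, act k x < 32 := by decide +kernel

theorem qm_lt : ∀ x < 32, ∀ y < 32, qm x y < 32 := by decide +kernel

theorem act_eq : ∀ k < 18, ∀ x < 32,
    act k x = (app T1)^[k % 3] ((app T2)^[k / 3 % 3] ((app Ts)^[k / 9] x)) := by decide +kernel

theorem app_lt : ∀ x < 32, app T1 x < 32 ∧ app T2 x < 32 ∧ app Ts x < 32 := by decide +kernel

/-- images of the generators -/
def I1 : ℕ → XG rP4 4 := fun n => toX ([2, 3, 4, 8].getD n 0)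
def I2 : ℕ → XG rP4 4 := fun n => toX ([1, 2, 8, 12].getD n 0)
def Is : ℕ → XG rP4 4 := fun n => toX ([4, 8, 1, 2].getD n 0)

theorem good1 : Good rP4 4 I1 := by decide +kernel
theorem good2 : Good rP4 4 I2 := by decide +kernel
theorem goods : Good rP4 4 Is := by decide +kernel

theorem lift1 : ∀ x < 32, lift good1.rels tri_P4 (toX x) = toX (app T1 x) := by decide +kernel
theorem lift2 : ∀ x < 32, lift good2.rels tri_P4 (toX x) = toX (app T2 x) := by decide +kernel
theorem lifts : ∀ x < 32, lift goods.rels tri_P4 (toX x) = toX (app Ts x) := by decide +kernel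

theorem toX_surj : ∀ g : XG rP4 4, ∃ x < 32, toX x = g := by
  intro g
  refine ⟨g.v.1 + 16 * (if g.s = true then 1 else 0), ?_, ?_⟩
  · have := g.v.2
    split <;> omega
  · obtain ⟨⟨v, hv⟩, s⟩ := g
    revert v s
    decide +kernel

/-! ### facts about the model -/

/-- twisted case: no involution outside `Q` -/
theorem f_twist : ∀ m < 576, 32 ≤ m → mm 16 m m ≠ 0 := by decide +kernel

/-- involutions outside `Q` -/
theorem f_inv : ∀ m < 576, 32 ≤ m → mm 0 m m = 0 →
    ∃ c < 576, mm 0 c m = mm 0 288 c ∨ mm 0 c m = mm 0 304 c := by decide +kernel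

/-- involutions commuting with `s` -/
theorem f_cent_s : ∀ m < 576, mm 0 m 288 = mm 0 288 m → mm 0 m m = 0 →
    m ∈ [0, 5, 10, 15, 16, 21, 26, 31, 288, 293, 298, 303, 304, 309, 314, 319] := by decide +kernel

theorem f_three : ∀ m < 576, 32 ≤ m → mm 0 m m = 0 →
    mm 0 (mm 0 288 m) (mm 0 (mm 0 288 m) (mm 0 288 m)) < 32 := by decide +kernel

theorem f_coset : ∀ m < 576, mm 0 m m = 0 → mm 0 288 m < 32 → mm 0 288 m = mm 0 m 288 := by
  decide +kernel

theorem f_conj : ∀ m < 32, m ≠ 0 → m ≠ 16 → mm 0 m m = 0 → ∃ c < 576, mm 0 c m = mm 0 5 c := by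
  decide +kernel

theorem f_conj' : ∀ m < 32, m ≠ 0 → m ≠ 16 → mm 16 m m = 0 → ∃ c < 576, mm 16 c m = mm 16 5 c := by
  decide +kernel

theorem f_stab : ∀ f ∈ [5, 10, 15], ∀ g ∈ [5, 10, 15], f ≠ g → ∀ m < 576, mm 0 m f = mm 0 f m →
    mm 0 m g = mm 0 g m ∨ mm 0 m g = mm 0 (mm 0 g 16) m := by decide +kernel

theorem f_stab_one : ∀ m < 576, ∀ t ∈ [0, 16], mm t m 5 = mm t 5 m →
    mm t m 10 = mm t 10 m ∨ mm t m 10 = mm t (mm t 10 16) m := by decide +kernel

/-- the derived subgroup of the centraliser of `s` -/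
theorem f_der : ∀ m < 576, mm 0 m 288 = mm 0 288 m → ∀ n < 576, mm 0 n 288 = mm 0 288 n →
    ∃ f ∈ [0, 5, 10, 15], mm 0 m n = mm 0 f (mm 0 n m) := by decide +kernel

end Cfsg.Agent.SmallExtra438.Model
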