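import Cfsg.Agent.SmallExtra438.Frame

/-!
# S1759, case `9a`: change of frame and the classes of involutions (helper438)
-/

set_option autoImplicit false

namespace Cfsg.Agent.SmallExtra438.NineA

open Cfsg.Agent.LargeExtra.Model Cfsg.Agent.LargeExtra.Pres Cfsg.Agent.LargeExtra.Models
open Cfsg.Agent.LargeExtra.W2 Cfsg.Agent.SmallExtra438.Model Cfsg.Agent.SmallExtra438.Frame
open Cfsg.Agent.Co2Type.Quad

section

variable {G : Type*} [Group G] {Q : Subgroup G} {z i j k l x₁ x₂ s : G}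

theorem act_conj {z i j k l c i' j' k' l' : G} (h : Act z i j k l c i' j' k' l') (g : G) :
    Act (g * z * g⁻¹) (g * i * g⁻¹) (g * j * g⁻¹) (g * k * g⁻¹) (g * l * g⁻¹) (g * c * g⁻¹)
      (g * i' * g⁻¹) (g * j' * g⁻¹) (g * k' * g⁻¹) (g * l' * g⁻¹) := by
  have e : ∀ {a b c : G}, c * a * c⁻¹ = b →
      (g * c * g⁻¹) * (g * a * g⁻¹) * (g * c * g⁻¹)⁻¹ = g * b * g⁻¹ := by
    intro a b c hab
    rw [← hab]; group
  exact ⟨e h.z, e h.i, e h.j, e h.k, e h.l⟩

theorem conj (h : Case9a Q z i j k l x₁ x₂ s) (g : G) :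
    Case9a (Q.map (MulAut.conj g).toMonoidHom) (g * z * g⁻¹) (g * i * g⁻¹) (g * j * g⁻¹)
      (g * k * g⁻¹) (g * l * g⁻¹) (g * x₁ * g⁻¹) (g * x₂ * g⁻¹) (g * s * g⁻¹) := by
  have e : ∀ {a b : G}, a = b → MulAut.conj g a = MulAut.conj g b := fun hab => congrArg _ hab
  have hinj : Function.Injective (MulAut.conj g).toMonoidHom := (MulAut.conj g).injective
  have hcen : Subgroup.centralizer ({g * z * g⁻¹} : Set G) =
      (Subgroup.centralizer ({z} : Set G)).map (MulAut.conj g).toMonoidHom := by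
    ext x
    rw [Subgroup.mem_centralizer_singleton_iff]
    constructor
    · intro hx
      refine ⟨g⁻¹ * x * g, ?_, ?_⟩
      · change g⁻¹ * x * g ∈ Subgroup.centralizer ({z} : Set G)
        rw [Subgroup.mem_centralizer_singleton_iff]
        calc g⁻¹ * x * g * z = g⁻¹ * (x * (g * z * g⁻¹)) * g := by group
          _ = g⁻¹ * (g * z * g⁻¹ * x) * g := by rw [hx]
          _ = z * (g⁻¹ * x * g) := by group
      · change g * (g⁻¹ * x * g) * g⁻¹ = x
        group
    · rintro ⟨y, hy, rfl⟩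
      have hy' := Subgroup.mem_centralizer_singleton_iff.1 hy
      change g * y * g⁻¹ * (g * z * g⁻¹) = g * z * g⁻¹ * (g * y * g⁻¹)
      calc g * y * g⁻¹ * (g * z * g⁻¹) = g * (y * z) * g⁻¹ := by group
        _ = g * (z * y) * g⁻¹ := by rw [hy']
        _ = _ := by group
  have hcard : ∀ K : Subgroup G, Nat.card (K.map (MulAut.conj g).toMonoidHom) = Nat.card K :=
    fun K => (Nat.card_congr (K.equivMapOfInjective _ hinj).toEquiv).symm
  refine { large := h.large.conj g, card := ?_, gen := ?_, ii := ?_, jj := ?_, kk := ?_, ll := ?_,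
           ji := ?_, lk := ?_, ki := ?_, li := ?_, kj := ?_, lj := ?_, x₁3 := ?_, x₂3 := ?_,
           x₁_act := ?_, x₂_act := ?_, s_act := act_conj h.s_act g, xx := ?_, s1 := ?_, s2 := ?_,
           ss := ?_, cent := ?_, card_cent := ?_ }
  · rw [hcard, h.card]
  · conv_lhs => rw [h.gen]
    rw [MonoidHom.map_closure]
    congr 1
    simp [Set.image_insert_eq]
  · simpa only [map_mul, MulAut.conj_apply] using e h.ii
  · simpa only [map_mul, MulAut.conj_apply] using e h.jj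
  · simpa only [map_mul, MulAut.conj_apply] using e h.kk
  · simpa only [map_mul, MulAut.conj_apply] using e h.ll
  · simpa only [map_mul, MulAut.conj_apply] using e h.ji
  · simpa only [map_mul, MulAut.conj_apply] using e h.lk
  · simpa only [map_mul, MulAut.conj_apply] using e h.ki
  · simpa only [map_mul, MulAut.conj_apply] using e h.li
  · simpa only [map_mul, MulAut.conj_apply] using e h.kj
  · simpa only [map_mul, MulAut.conj_apply] using e h.lj
  · rw [conj_pow, h.x₁3]; group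
  · rw [conj_pow, h.x₂3]; group
  · have h1 := act_conj h.x₁_act g
    have h2 : g * (i * j) * g⁻¹ = g * i * g⁻¹ * (g * j * g⁻¹) := by group
    rwa [h2] at h1
  · have h1 := act_conj h.x₂_act g
    have h2 : g * (k * l) * g⁻¹ = g * k * g⁻¹ * (g * l * g⁻¹) := by group
    rwa [h2] at h1
  · simpa only [map_mul, MulAut.conj_apply] using e h.xx
  · rw [← h.s1]; group
  · rw [← h.s2]; group
  · rcases h.ss with h1 | h1
    · left
      calc g * s * g⁻¹ * (g * s * g⁻¹) = g * (s * s) * g⁻¹ := by group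
        _ = 1 := by rw [h1]; group
    · right
      calc g * s * g⁻¹ * (g * s * g⁻¹) = g * (s * s) * g⁻¹ := by group
        _ = _ := by rw [h1]
  · rw [hcen]
    conv_lhs => rw [h.cent]
    rw [MonoidHom.map_closure]
    congr 1
    simp [Set.image_insert_eq]
  · rw [hcen, hcard, h.card_cent]

/-- `s` may be replaced by `z s`. -/
theorem mul_z (h : Case9a Q z i j k l x₁ x₂ s) : Case9a Q z i j k l x₁ x₂ (z * s) := by
  have hz : ∀ g ∈ Q, g * z = z * g := h.large.comm_z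
  have hmem : ∀ g ∈ ({i, j, k, l} : Set G), g ∈ Q := fun g hg => h.gen ▸ Subgroup.subset_closure hg
  have zz := h.large.z_sq
  have zi : z⁻¹ = z := h.large.z_inv
  have e3 : s * z = z * s := by
    calc s * z = (s * z * s⁻¹) * s := by group
      _ = z * s := by rw [h.s_act.z]
  have key : ∀ {a b : G}, s * a * s⁻¹ = b → b * z = z * b → (z * s) * a * (z * s)⁻¹ = b := by
    intro a b hab hb
    calc (z * s) * a * (z * s)⁻¹ = z * (s * a * s⁻¹) * z⁻¹ := by group
      _ = z * b * z⁻¹ := by rw [hab]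
      _ = b := by rw [← hb]; group
  have hx1 : x₁ * z = z * x₁ := by
    calc x₁ * z = (x₁ * z * x₁⁻¹) * x₁ := by group
      _ = z * x₁ := by rw [h.x₁_act.z]
  have hx2 : x₂ * z = z * x₂ := by
    calc x₂ * z = (x₂ * z * x₂⁻¹) * x₂ := by group
      _ = z * x₂ := by rw [h.x₂_act.z]
  refine { h with s_act := ?_, s1 := key h.s1 hx2, s2 := key h.s2 hx1, ss := ?_, cent := ?_ }
  · exact ⟨key h.s_act.z rfl, key h.s_act.i (hz k (hmem k (by simp))),
      key h.s_act.j (hz l (hmem l (by simp))), key h.s_act.k (hz i (hmem i (by simp))),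
      key h.s_act.l (hz j (hmem j (by simp)))⟩
  · have h1 : z * s * (z * s) = s * s := by
      calc z * s * (z * s) = z * (s * z) * s := by group
        _ = z * (z * s) * s := by rw [e3]
        _ = (z * z) * (s * s) := by group
        _ = s * s := by rw [zz, one_mul]
    rw [h1]; exact h.ss
  · have hzc : ∀ t : G, z ∈ Subgroup.closure {i, j, k, l, x₁, x₂, t} := fun t => by
      rw [← h.ii]
      exact mul_mem (Subgroup.subset_closure (by simp)) (Subgroup.subset_closure (by simp))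
    rw [h.cent]
    apply le_antisymm
    · rw [Subgroup.closure_le]
      intro g hg
      simp only [Set.mem_insert_iff, Set.mem_singleton_iff] at hg
      have hs : s ∈ Subgroup.closure {i, j, k, l, x₁, x₂, z * s} := by
        have h1 := mul_mem (inv_mem (hzc (z * s)))
          (Subgroup.subset_closure (show z * s ∈ ({i, j, k, l, x₁, x₂, z * s} : Set G) by
            simp only [Set.mem_insert_iff, Set.mem_singleton_iff]; tauto))
        rwa [inv_mul_cancel_left] at h1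
      rcases hg with rfl | rfl | rfl | rfl | rfl | rfl | rfl
      on_goal 7 => exact hs
      all_goals exact Subgroup.subset_closure (by simp)
    · rw [Subgroup.closure_le]
      intro g hg
      simp only [Set.mem_insert_iff, Set.mem_singleton_iff] at hg
      rcases hg with rfl | rfl | rfl | rfl | rfl | rfl | rfl
      on_goal 7 => exact mul_mem (hzc _) (Subgroup.subset_closure (by simp))
      all_goals exact Subgroup.subset_closure (by simp)

/-- the map `Q ^ c = Q` for `c ∈ C_G(z)` -/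
theorem conj_cent (h : Case9a Q z i j k l x₁ x₂ s) {c : G} (hc : c * z = z * c) :
    Case9a Q z (c * i * c⁻¹) (c * j * c⁻¹) (c * k * c⁻¹) (c * l * c⁻¹) (c * x₁ * c⁻¹)
      (c * x₂ * c⁻¹) (c * s * c⁻¹) := by
  have h1 := conj h c
  rw [Cfsg.Agent.LargeExtra.Base.map_eq_self h.large hc] at h1
  have h2 : c * z * c⁻¹ = z := by rw [hc]; group
  rwa [h2] at h1

variable [Finite G]

theorem f_ne {h : Case9a Q z i j k l x₁ x₂ s} {m n : ℕ} (hm : m < 576) (hn : n < 576) (hmn : m ≠ n) :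
    F z i j k l x₁ x₂ s m ≠ F z i j k l x₁ x₂ s n := fun he => hmn (F_inj h hm hn he)

/-- In the twisted case all involutions of `C_G(z)` lie in `Q`. -/
theorem twisted_mem (h : Case9a Q z i j k l x₁ x₂ s) (hs : s * s = z) {u : G} (hu : u * z = z * u)
    (huu : u * u = 1) : u ∈ Q := by
  obtain ⟨m, hm, rfl⟩ := exists_code h hu
  rw [mem_Q_iff h hm]
  by_contra hlt
  have hs' : s * s = L z i j k l 16 := by rw [L_16, hs]
  apply f_twist m hm (by omega)
  apply F_inj h (mm_lt (Or.inr rfl) hm hm) (by norm_num)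
  rw [F_mul h (Or.inr rfl) hs' hm hm, F_0, huu]

section split

variable (h : Case9a Q z i j k l x₁ x₂ s) (hs : s * s = 1)
include h hs

omit [Finite G] in
theorem mul0 {m n : ℕ} (hm : m < 576) (hn : n < 576) :
    F z i j k l x₁ x₂ s (mm 0 m n) = F z i j k l x₁ x₂ s m * F z i j k l x₁ x₂ s n :=
  F_mul h (Or.inl rfl) (by rw [L_0, hs]) hm hn

omit [Group G] [Finite G] h hs in
theorem lt0 {m n : ℕ} (hm : m < 576) (hn : n < 576) : mm 0 m n < 576 := mm_lt (Or.inl rfl) hm hn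

/-- transfer of an equation to the model -/
theorem eq_iff {m n m' n' : ℕ} (hm : m < 576) (hn : n < 576) (hm' : m' < 576) (hn' : n' < 576) :
    F z i j k l x₁ x₂ s m * F z i j k l x₁ x₂ s n = F z i j k l x₁ x₂ s m' * F z i j k l x₁ x₂ s n' ↔
      mm 0 m n = mm 0 m' n' := by
  rw [← mul0 h hs hm hn, ← mul0 h hs hm' hn']
  exact ⟨fun he => F_inj h (lt0 hm hn) (lt0 hm' hn') he, fun he => by rw [he]⟩

theorem sq_iff {m : ℕ} (hm : m < 576) :
    F z i j k l x₁ x₂ s m * F z i j k l x₁ x₂ s m = 1 ↔ mm 0 m m = 0 := by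
  rw [← mul0 h hs hm hm, ← F_0 (z := z) (i := i) (j := j) (k := k) (l := l) (x₁ := x₁) (x₂ := x₂) (s := s)]
  exact ⟨fun he => F_inj h (lt0 hm hm) (by norm_num) he, fun he => by rw [he]⟩

/-- An involution of `C_G(z)` outside `Q` is the element `s` of a frame. -/
theorem exists_frame {u : G} (hu : u * z = z * u) (huu : u * u = 1) (huQ : u ∉ Q) :
    ∃ i' j' k' l' x₁' x₂', Case9a Q z i' j' k' l' x₁' x₂' u := by
  obtain ⟨m, hm, rfl⟩ := exists_code h hu
  rw [mem_Q_iff h hm] at huQ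
  obtain ⟨c, hc, h1⟩ := f_inv m hm (by omega) ((sq_iff h hs hm).1 huu)
  have hcz := F_comm h hc
  have hcz' : (F z i j k l x₁ x₂ s c)⁻¹ * z = z * (F z i j k l x₁ x₂ s c)⁻¹ :=
    (show Commute (F z i j k l x₁ x₂ s c) z from hcz).inv_left.eq
  rcases h1 with h1 | h1
  · have h2 := (eq_iff h hs hc hm (by norm_num) hc).2 h1
    rw [F_288] at h2
    have h3 := conj_cent h hcz'
    have h4 : (F z i j k l x₁ x₂ s c)⁻¹ * s * (F z i j k l x₁ x₂ s c)⁻¹⁻¹ = F z i j k l x₁ x₂ s m := by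
      rw [inv_inv, mul_assoc, ← h2]; group
    rw [h4] at h3
    exact ⟨_, _, _, _, _, _, h3⟩
  · have h2 := (eq_iff h hs hc hm (by norm_num) hc).2 h1
    rw [F_304] at h2
    have h3 := conj_cent (mul_z h) hcz'
    have h4 : (F z i j k l x₁ x₂ s c)⁻¹ * (z * s) * (F z i j k l x₁ x₂ s c)⁻¹⁻¹ =
        F z i j k l x₁ x₂ s m := by
      rw [inv_inv, mul_assoc, ← h2]; group
    rw [h4] at h3
    exact ⟨_, _, _, _, _, _, h3⟩

end split

/-! ### not both `s` and `z s` are conjugate to `z` -/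

/-- the three involutions `[Q, s] ∩ C(s)` -/
def FS (i j k l : G) : Set G := {i * k, j * l, i * j * k * l}

omit [Finite G] in
theorem mem_FS {f : G} (hf : f ∈ FS i j k l) : ∃ m ∈ [5, 10, 15], F z i j k l x₁ x₂ s m = f := by
  rcases hf with rfl | rfl | rfl
  · exact ⟨5, by simp, F_5⟩
  · exact ⟨10, by simp, F_10⟩
  · exact ⟨15, by simp, F_15⟩

omit [Finite G] in
theorem mem_FS' {m : ℕ} (hm : m ∈ [5, 10, 15]) : F z i j k l x₁ x₂ s m ∈ FS i j k l := by
  simp only [List.mem_cons, List.not_mem_nil, or_false] at hm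
  rcases hm with rfl | rfl | rfl
  · rw [F_5]; exact Or.inl rfl
  · rw [F_10]; exact Or.inr (Or.inl rfl)
  · rw [F_15]; exact Or.inr (Or.inr rfl)

omit [Finite G] in
theorem lt_of_mem {m : ℕ} (hm : m ∈ [5, 10, 15]) : m < 576 ∧ m < 32 ∧ m ≠ 0 ∧ m ≠ 16 := by
  simp only [List.mem_cons, List.not_mem_nil, or_false] at hm
  omega

theorem m_der : ∀ f ∈ [5, 10, 15], ∃ n ∈ [5, 10, 15], mm 0 128 n = mm 0 f (mm 0 n 128) ∧
    mm 0 n 288 = mm 0 288 n ∧ mm 0 128 288 = mm 0 288 128 := by decide +kernel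

theorem m_alpha : ∀ f ∈ [5, 10, 15], ∃ a ∈ [1, 2, 3], mm 0 a f = mm 0 f a ∧
    (∀ f' ∈ [5, 10, 15], f' ≠ f → mm 0 a f' = mm 0 (mm 0 16 f') a) ∧
    mm 0 a 288 = mm 0 (mm 0 (mm 0 16 f) 288) a := by decide +kernel

section der

variable (h : Case9a Q z i j k l x₁ x₂ s) (hs : s * s = 1)
include h hs

theorem der_mem {a b : G} (ha : a * z = z * a) (ha' : a * s = s * a) (hb : b * z = z * b)
    (hb' : b * s = s * b) : ∃ f, (f = 1 ∨ f ∈ FS i j k l) ∧ a * b = f * (b * a) := by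
  obtain ⟨m, hm, rfl⟩ := exists_code h ha
  obtain ⟨n, hn, rfl⟩ := exists_code h hb
  have h1 : mm 0 m 288 = mm 0 288 m := by
    rw [← eq_iff h hs hm (by norm_num) (by norm_num) hm, F_288]; exact ha'
  have h2 : mm 0 n 288 = mm 0 288 n := by
    rw [← eq_iff h hs hn (by norm_num) (by norm_num) hn, F_288]; exact hb'
  obtain ⟨f, hf, h3⟩ := f_der m hm h1 n hn h2
  have hf' : f < 576 := by
    simp only [List.mem_cons, List.not_mem_nil, or_false] at hf
    omega
  refine ⟨F z i j k l x₁ x₂ s f, ?_, ?_⟩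
  · simp only [List.mem_cons, List.not_mem_nil, or_false] at hf
    rcases hf with rfl | hf
    · left; exact F_0
    · right
      exact mem_FS' (by simpa using hf)
  · rw [← mul0 h hs hn hm]
    exact (eq_iff h hs hm hn hf' (lt0 hn hm)).2 h3

theorem exists_der {f : G} (hf : f ∈ FS i j k l) : ∃ a b : G, a * z = z * a ∧ a * s = s * a ∧
    b * z = z * b ∧ b * s = s * b ∧ a * b = f * (b * a) := by
  obtain ⟨m, hm, rfl⟩ := mem_FS (z := z) (x₁ := x₁) (x₂ := x₂) (s := s) hf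
  obtain ⟨n, hn, h1, h2, h3⟩ := m_der m hm
  have hn' := (lt_of_mem hn).1
  have hm' := (lt_of_mem hm).1
  refine ⟨F z i j k l x₁ x₂ s 128, F z i j k l x₁ x₂ s n, F_comm h (by norm_num), ?_,
    F_comm h hn', ?_, ?_⟩
  · have h4 := (eq_iff h hs (m := 128) (n := 288) (m' := 288) (n' := 128) (by norm_num) (by norm_num)
      (by norm_num) (by norm_num)).2 h3
    rwa [F_288] at h4
  · have h4 := (eq_iff h hs (m := n) (n := 288) (m' := 288) (n' := n) hn' (by norm_num)
      (by norm_num) hn').2 h2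
    rwa [F_288] at h4
  · rw [← mul0 h hs hn' (by norm_num)]
    exact (eq_iff h hs (by norm_num) hn' hm' (lt0 hn' (by norm_num))).2 h1

theorem FS_ne {f : G} (hf : f ∈ FS i j k l) : f ≠ 1 ∧ f ≠ z := by
  obtain ⟨m, hm, rfl⟩ := mem_FS (z := z) (x₁ := x₁) (x₂ := x₂) (s := s) hf
  obtain ⟨h1, h2, h3, h4⟩ := lt_of_mem hm
  constructor
  · intro he
    rw [← F_0 (z := z) (i := i) (j := j) (k := k) (l := l) (x₁ := x₁) (x₂ := x₂) (s := s)] at he
    exact h3 (F_inj h h1 (by norm_num) he)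
  · intro he
    apply h4
    apply F_inj h h1 (by norm_num)
    rw [he, F_16]

/-- the set `FS` of another frame with the same `C(z, s)` -/
theorem FS_sub {Q' : Subgroup G} {c i' j' k' l' x₁' x₂' u : G} (K : Case9a Q' c i' j' k' l' x₁' x₂' u)
    (hu : u * u = 1) (hc : ∀ a, a * c = c * a → a * u = u * a → a * z = z * a ∧ a * s = s * a)
    {f : G} (hf : f ∈ FS i' j' k' l') : f ∈ FS i j k l := by
  obtain ⟨a, b, h1, h2, h3, h4, h5⟩ := exists_der K hu hf
  obtain ⟨ha, ha'⟩ := hc a h1 h2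
  obtain ⟨hb, hb'⟩ := hc b h3 h4
  obtain ⟨g, hg, h6⟩ := der_mem h hs ha ha' hb hb'
  have h7 : f = g := mul_right_cancel (h5.symm.trans h6)
  rcases hg with rfl | hg
  · exact absurd h7 (FS_ne K hu hf).1
  · rw [h7]; exact hg

/-- the elements `α` -/
theorem exists_alpha {f : G} (hf : f ∈ FS i j k l) : ∃ a ∈ Q, a * z = z * a ∧ a * f = f * a ∧
    (∀ f' ∈ FS i j k l, f' ≠ f → a * f' = z * f' * a) ∧ a * s = z * f * s * a := by
  obtain ⟨m, hm, rfl⟩ := mem_FS (z := z) (x₁ := x₁) (x₂ := x₂) (s := s) hf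
  obtain ⟨n, hn, h1, h2, h3⟩ := m_alpha m hm
  have hn' : n < 32 := by
    simp only [List.mem_cons, List.not_mem_nil, or_false] at hn
    omega
  have hm' := (lt_of_mem hm).1
  have hn2 : n < 576 := by omega
  refine ⟨F z i j k l x₁ x₂ s n, (mem_Q_iff h (by omega)).2 hn', F_comm h (by omega),
    (eq_iff h hs hn2 hm' hm' hn2).2 h1, ?_, ?_⟩
  · intro f' hf' hne
    obtain ⟨m', hm2, rfl⟩ := mem_FS (z := z) (x₁ := x₁) (x₂ := x₂) (s := s) hf'
    have hm3 := (lt_of_mem hm2).1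
    have h4 := h2 m' hm2 (fun e => hne (by rw [e]))
    have h5 := (eq_iff h hs hn2 hm3 (lt0 (by norm_num) hm3) hn2).2 h4
    rwa [mul0 h hs (by norm_num) hm3, F_16] at h5
  · have h5 := (eq_iff h hs hn2 (by norm_num) (lt0 (lt0 (by norm_num) hm') (by norm_num)) hn2).2 h3
    rwa [mul0 h hs (lt0 (by norm_num) hm') (by norm_num), mul0 h hs (by norm_num) hm', F_16, F_288] at h5

theorem stab {f f' g : G} (hf : f ∈ FS i j k l) (hf' : f' ∈ FS i j k l) (hne : f ≠ f')
    (hg : g * z = z * g) (hgf : g * f = f * g) : g * f' = f' * g ∨ g * f' = f' * z * g := by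
  obtain ⟨m, hm, rfl⟩ := mem_FS (z := z) (x₁ := x₁) (x₂ := x₂) (s := s) hf
  obtain ⟨m', hm', rfl⟩ := mem_FS (z := z) (x₁ := x₁) (x₂ := x₂) (s := s) hf'
  obtain ⟨n, hn, rfl⟩ := exists_code h hg
  have hm1 := (lt_of_mem hm).1
  have hm1' := (lt_of_mem hm').1
  rcases f_stab m hm m' hm' (fun e => hne (by rw [e])) n hn ((eq_iff h hs hn hm1 hm1 hn).1 hgf) with h1 | h1
  · left; exact (eq_iff h hs hn hm1' hm1' hn).2 h1
  · right
    have h2 := (eq_iff h hs hn hm1' (lt0 hm1' (by norm_num)) hn).2 h1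
    rwa [mul0 h hs hm1' (by norm_num), F_16] at h2

end der

omit [Finite G] in
/-- `u = z^g ∉ Q` implies `z ∉ Q^g`. -/
theorem notMem_symm (hl : Large Q z) {g : G} (hne : g * z * g⁻¹ ≠ z) (hQ : g * z * g⁻¹ ∉ Q) :
    z ∉ Q.map (MulAut.conj g).toMonoidHom := by
  intro hmem
  have h1 : g⁻¹ * (g * z * g⁻¹) * g⁻¹⁻¹ = z := by group
  have hp := Cfsg.Agent.LargeExtra.Base.pair_of_conj (hl.conj g) (g := g⁻¹) (by rw [h1]; exact hmem)
    (by rw [h1]; exact hne.symm)
  apply hQ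
  obtain ⟨y, hy, hyz⟩ := hp.z_mem
  obtain ⟨x, hx, rfl⟩ := hy
  have h2 : g⁻¹ * (g * x * g⁻¹) * g⁻¹⁻¹ = x := by group
  have h3 : (MulAut.conj g⁻¹).toMonoidHom ((MulAut.conj g).toMonoidHom x) = x := h2
  rw [h3] at hyz
  rw [← hyz]; exact hx

section main

variable (h : Case9a Q z i j k l x₁ x₂ s) (hs : s * s = 1)
include h hs

theorem frame_at {u : G} (hu : IsConj z u) (huz : u * z = z * u) (huQ : u ∉ Q) :
    ∃ (Q' : Subgroup G) (i' j' k' l' x₁' x₂' : G), Case9a Q' u i' j' k' l' x₁' x₂' z := by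
  obtain ⟨g, rfl⟩ := isConj_iff.1 hu
  have hne : g * z * g⁻¹ ≠ z := fun he => huQ (by rw [he]; exact h.large.z_mem)
  have h1 := conj h g
  have hss : g * s * g⁻¹ * (g * s * g⁻¹) = 1 := by
    calc g * s * g⁻¹ * (g * s * g⁻¹) = g * (s * s) * g⁻¹ := by group
      _ = 1 := by rw [hs]; group
  obtain ⟨i', j', k', l', x₁', x₂', h2⟩ := exists_frame h1 hss huz.symm h.large.z_sq
    (notMem_symm h.large hne huQ)
  exact ⟨_, i', j', k', l', x₁', x₂', h2⟩

theorem s_notMem : s ∉ Q := by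
  intro hm
  rw [← F_288 (z := z) (i := i) (j := j) (k := k) (l := l) (x₁ := x₁) (x₂ := x₂) (s := s),
    mem_Q_iff h (by norm_num)] at hm
  omega

theorem s_comm : s * z = z * s := by
  have h1 := F_comm h (m := 288) (by norm_num)
  rwa [F_288] at h1

/-- Lemma A: `s` and `z s` are not both conjugate to `z`. -/
theorem not_both (h1 : IsConj z s) (h2 : IsConj z (z * s)) : False := by
  have zz := h.large.z_sq
  have hsz := s_comm h hs
  have hzsQ : z * s ∉ Q := fun hm => s_notMem h hs ((Subgroup.mul_mem_cancel_left Q h.large.z_mem).1 hm)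
  -- the frames at `s` and `z s`
  obtain ⟨Q1, i1, j1, k1, l1, y1, w1, H1⟩ := frame_at h hs h1 hsz (s_notMem h hs)
  obtain ⟨Q2, i2, j2, k2, l2, y2, w2, H2⟩ := frame_at h hs h2
    (by rw [mul_assoc, hsz]) hzsQ
  have hc1 : ∀ a, a * s = s * a → a * z = z * a → a * z = z * a ∧ a * s = s * a := fun a h3 h4 => ⟨h4, h3⟩
  have hc1' : ∀ a, a * z = z * a → a * s = s * a → a * s = s * a ∧ a * z = z * a := fun a h3 h4 => ⟨h4, h3⟩
  have hc2 : ∀ a, a * (z * s) = z * s * a → a * z = z * a → a * z = z * a ∧ a * s = s * a := by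
    intro a h3 h4
    refine ⟨h4, ?_⟩
    have h5 : z * (a * s) = z * (s * a) := by
      rw [← mul_assoc, ← h4, mul_assoc, h3, mul_assoc]
    exact mul_left_cancel h5
  have hc2' : ∀ a, a * z = z * a → a * s = s * a → a * (z * s) = z * s * a ∧ a * z = z * a := by
    intro a h3 h4
    refine ⟨?_, h3⟩
    rw [← mul_assoc, h3, mul_assoc, h4, mul_assoc]
  -- `f₁ = i k`, `f₂ = j l`
  have hf1 : i * k ∈ FS i j k l := Or.inl rfl
  have hf2 : j * l ∈ FS i j k l := Or.inr (Or.inl rfl)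
  have hf1' : i * k ∈ FS i1 j1 k1 l1 := FS_sub H1 zz h hs hc1' hf1
  have hf2' : j * l ∈ FS i1 j1 k1 l1 := FS_sub H1 zz h hs hc1' hf2
  have hf1'' : i * k ∈ FS i2 j2 k2 l2 := FS_sub H2 zz h hs hc2' hf1
  have hf2'' : j * l ∈ FS i2 j2 k2 l2 := FS_sub H2 zz h hs hc2' hf2
  have hne : i * k ≠ j * l := by
    intro he
    have h3 : F z i j k l x₁ x₂ s 5 = F z i j k l x₁ x₂ s 10 := by rw [F_5, F_10, he]
    have := F_inj h (by norm_num) (by norm_num) h3
    omega
  obtain ⟨a, haQ, haz, haf, haf', has⟩ := exists_alpha h hs hf1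
  obtain ⟨b, hbQ, hbs, hbf, hbf', hbz⟩ := exists_alpha H1 zz hf1'
  have ha2 := haf' _ hf2 hne.symm
  have hb2 := hbf' _ hf2' hne.symm
  -- `g = a b a⁻¹`
  set f₁ := i * k with hf₁
  set f₂ := j * l with hf₂
  have hzf1 : z * f₁ = f₁ * z := (h.large.comm_z _ (by
    have := mem_Q_iff h (m := 5) (by norm_num)
    rw [F_5] at this
    exact this.2 (by norm_num))).symm
  have hzf2 : z * f₂ = f₂ * z := (h.large.comm_z _ (by
    have := mem_Q_iff h (m := 10) (by norm_num)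
    rw [F_10] at this
    exact this.2 (by norm_num))).symm
  have hsf1 : s * f₁ = f₁ * s := (H1.large.comm_z _ (by
    obtain ⟨m, hm, he⟩ := mem_FS (z := s) (x₁ := y1) (x₂ := w1) (s := z) hf1'
    have := mem_Q_iff H1 (m := m) (lt_of_mem hm).1
    rw [he] at this
    exact this.2 (lt_of_mem hm).2.1)).symm
  have hsf2 : s * f₂ = f₂ * s := (H1.large.comm_z _ (by
    obtain ⟨m, hm, he⟩ := mem_FS (z := s) (x₁ := y1) (x₂ := w1) (s := z) hf2'
    have := mem_Q_iff H1 (m := m) (lt_of_mem hm).1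
    rw [he] at this
    exact this.2 (lt_of_mem hm).2.1)).symm
  have hf11 : f₁ * f₁ = 1 := by
    have h3 := (sq_iff h hs (m := 5) (by norm_num)).2 (by decide +kernel)
    rwa [F_5] at h3
  have hf12 : f₁ * f₂ = f₂ * f₁ := by
    have h3 := (eq_iff h hs (m := 5) (n := 10) (m' := 10) (n' := 5) (by norm_num) (by norm_num)
      (by norm_num) (by norm_num)).2 (by decide +kernel)
    rwa [F_5, F_10] at h3
  -- conjugation equations
  have ca_z : a * z * a⁻¹ = z := by rw [haz]; group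
  have ca_f1 : a * f₁ * a⁻¹ = f₁ := by rw [haf]; group
  have ca_f2 : a * f₂ * a⁻¹ = z * f₂ := by rw [ha2]; group
  have ca_s : a * s * a⁻¹ = z * f₁ * s := by rw [has]; group
  have cb_s : b * s * b⁻¹ = s := by rw [hbs]; group
  have cb_f1 : b * f₁ * b⁻¹ = f₁ := by rw [hbf]; group
  have cb_f2 : b * f₂ * b⁻¹ = s * f₂ := by rw [hb2]; group
  have cb_z : b * z * b⁻¹ = s * f₁ * z := by rw [hbz]; group
  have ca'_f1 : a⁻¹ * f₁ * a = f₁ := by
    calc a⁻¹ * f₁ * a = a⁻¹ * (a * f₁ * a⁻¹) * a := by rw [ca_f1]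
      _ = f₁ := by group
  have ca'_f2 : a⁻¹ * f₂ * a = z * f₂ := by
    have h3 : a * (z * f₂) * a⁻¹ = f₂ := by
      calc a * (z * f₂) * a⁻¹ = (a * z * a⁻¹) * (a * f₂ * a⁻¹) := by group
        _ = z * (z * f₂) := by rw [ca_z, ca_f2]
        _ = f₂ := by rw [← mul_assoc, zz, one_mul]
    calc a⁻¹ * f₂ * a = a⁻¹ * (a * (z * f₂) * a⁻¹) * a := by rw [h3]
      _ = z * f₂ := by group
  have ca'_zs : a⁻¹ * (z * s) * a = f₁ * s := by
    have h3 : a * (f₁ * s) * a⁻¹ = z * s := by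
      calc a * (f₁ * s) * a⁻¹ = (a * f₁ * a⁻¹) * (a * s * a⁻¹) := by group
        _ = f₁ * (z * f₁ * s) := by rw [ca_f1, ca_s]
        _ = f₁ * (f₁ * z * s) := by rw [hzf1]
        _ = (f₁ * f₁) * (z * s) := by group
        _ = z * s := by rw [hf11, one_mul]
    calc a⁻¹ * (z * s) * a = a⁻¹ * (a * (f₁ * s) * a⁻¹) * a := by rw [h3]
      _ = f₁ * s := by group
  have g_f1 : (a * b * a⁻¹) * f₁ = f₁ * (a * b * a⁻¹) := by
    have h3 : (a * b * a⁻¹) * f₁ * (a * b * a⁻¹)⁻¹ = f₁ := by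
      calc (a * b * a⁻¹) * f₁ * (a * b * a⁻¹)⁻¹ = a * (b * (a⁻¹ * f₁ * a) * b⁻¹) * a⁻¹ := by group
        _ = f₁ := by rw [ca'_f1, cb_f1, ca_f1]
    calc (a * b * a⁻¹) * f₁ = ((a * b * a⁻¹) * f₁ * (a * b * a⁻¹)⁻¹) * (a * b * a⁻¹) := by group
      _ = _ := by rw [h3]
  have g_zs : (a * b * a⁻¹) * (z * s) = (z * s) * (a * b * a⁻¹) := by
    have h3 : (a * b * a⁻¹) * (z * s) * (a * b * a⁻¹)⁻¹ = z * s := by
      calc (a * b * a⁻¹) * (z * s) * (a * b * a⁻¹)⁻¹
          = a * (b * (a⁻¹ * (z * s) * a) * b⁻¹) * a⁻¹ := by group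
        _ = a * ((b * f₁ * b⁻¹) * (b * s * b⁻¹)) * a⁻¹ := by rw [ca'_zs]; group
        _ = (a * f₁ * a⁻¹) * (a * s * a⁻¹) := by rw [cb_f1, cb_s]; group
        _ = f₁ * (f₁ * z * s) := by rw [ca_f1, ca_s, hzf1]
        _ = (f₁ * f₁) * (z * s) := by group
        _ = z * s := by rw [hf11, one_mul]
    calc (a * b * a⁻¹) * (z * s) = ((a * b * a⁻¹) * (z * s) * (a * b * a⁻¹)⁻¹) * (a * b * a⁻¹) := by
          group
      _ = _ := by rw [h3]
  have g_f2 : (a * b * a⁻¹) * f₂ = f₁ * f₂ * (a * b * a⁻¹) := by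
    have h3 : (a * b * a⁻¹) * f₂ * (a * b * a⁻¹)⁻¹ = f₁ * f₂ := by
      calc (a * b * a⁻¹) * f₂ * (a * b * a⁻¹)⁻¹
          = a * (b * (a⁻¹ * f₂ * a) * b⁻¹) * a⁻¹ := by group
        _ = a * ((b * z * b⁻¹) * (b * f₂ * b⁻¹)) * a⁻¹ := by rw [ca'_f2]; group
        _ = a * ((s * f₁ * z) * (s * f₂)) * a⁻¹ := by rw [cb_z, cb_f2]
        _ = a * (f₁ * z * f₂) * a⁻¹ := by
            congr 2
            calc s * f₁ * z * (s * f₂) = s * f₁ * (z * s) * f₂ := by group
              _ = s * f₁ * (s * z) * f₂ := by rw [hsz]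
              _ = s * (f₁ * s) * z * f₂ := by group
              _ = s * (s * f₁) * z * f₂ := by rw [hsf1]
              _ = (s * s) * (f₁ * z * f₂) := by group
              _ = f₁ * z * f₂ := by rw [hs, one_mul]
        _ = (a * f₁ * a⁻¹) * (a * z * a⁻¹) * (a * f₂ * a⁻¹) := by group
        _ = f₁ * z * (z * f₂) := by rw [ca_f1, ca_z, ca_f2]
        _ = f₁ * (z * z) * f₂ := by group
        _ = f₁ * f₂ := by rw [zz, mul_one]
    calc (a * b * a⁻¹) * f₂ = ((a * b * a⁻¹) * f₂ * (a * b * a⁻¹)⁻¹) * (a * b * a⁻¹) := by group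
      _ = _ := by rw [h3]
  obtain ⟨n1, n2⟩ := FS_ne H2 zz hf1''
  rcases stab H2 zz hf1'' hf2'' hne g_zs g_f1 with h3 | h3
  · rw [g_f2] at h3
    have h4 := mul_right_cancel h3
    exact n1 (mul_eq_right.1 h4)
  · rw [g_f2] at h3
    have h4 : f₁ * f₂ = f₂ * (z * s) := mul_right_cancel h3
    rw [hf12] at h4
    exact n2 (mul_left_cancel h4)

end main

end

end Cfsg.Agent.SmallExtra438.NineA
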