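import Cfsg.Agent.SmallExtra438.NineA
import Cfsg.Agent.StandardComponent.AltFinal

/-!
# S1759, case `9a`: `z` is weakly closed in `Q` and `s² = 1` (helper438)
-/

set_option autoImplicit false

namespace Cfsg.Agent.SmallExtra438.NineAWeak

open Cfsg.Agent.LargeExtra.Model Cfsg.Agent.LargeExtra.Pres Cfsg.Agent.LargeExtra.Models
open Cfsg.Agent.LargeExtra.W2 Cfsg.Agent.SmallExtra438.Model Cfsg.Agent.SmallExtra438.Frame
open Cfsg.Agent.SmallExtra438.NineA Cfsg.Agent.Co2Type.Quad Cfsg.Agent.LargeExtra.Base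

variable {G : Type*} [Group G] [Finite G] {Q : Subgroup G} {z i j k l x₁ x₂ s : G}

omit [Finite G] in
theorem gen_mem (h : Case9a Q z i j k l x₁ x₂ s) : i ∈ Q ∧ j ∈ Q ∧ k ∈ Q ∧ l ∈ Q := by
  have hmem : ∀ g ∈ ({i, j, k, l} : Set G), g ∈ Q := fun g hg => h.gen ▸ Subgroup.subset_closure hg
  exact ⟨hmem _ (by simp), hmem _ (by simp), hmem _ (by simp), hmem _ (by simp)⟩

section split

variable (h : Case9a Q z i j k l x₁ x₂ s) (hs : s * s = 1)
include h hs

/-- the non-central involutions of `Q` are conjugate to `i k` in `C_G(z)` -/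
theorem exists_conj_ik {x : G} (hx : x ∈ Q) (hxx : x * x = 1) (h1 : x ≠ 1) (hz : x ≠ z) :
    ∃ c, c * z = z * c ∧ c * x = i * k * c := by
  obtain ⟨m, hm, rfl⟩ := exists_code h (h.large.comm_z x hx)
  rw [mem_Q_iff h hm] at hx
  have h0 : m ≠ 0 := by rintro rfl; exact h1 F_0
  have h16 : m ≠ 16 := by rintro rfl; exact hz F_16
  obtain ⟨c, hc, h2⟩ := f_conj m hx h0 h16 ((sq_iff h hs hm).1 hxx)
  refine ⟨F z i j k l x₁ x₂ s c, F_comm h hc, ?_⟩
  have h3 := (eq_iff h hs hc hm (by norm_num) hc).2 h2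
  rwa [F_5] at h3

/-- an involution of `C_G(z)` outside `Q` commuting with `s`: the product lies in `Q` -/
theorem mul_mem_of_comm {x : G} (hx : x * z = z * x) (hxx : x * x = 1) (hxQ : x ∉ Q)
    (hxs : x * s = s * x) : s * x ∈ Q := by
  obtain ⟨m, hm, rfl⟩ := exists_code h hx
  rw [mem_Q_iff h hm] at hxQ
  have h1 := f_three m hm (by omega) ((sq_iff h hs hm).1 hxx)
  have h2 : mm 0 (mm 0 288 m) (mm 0 (mm 0 288 m) (mm 0 288 m)) < 576 := by omega
  have h3 := (mem_Q_iff h h2).2 h1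
  have h4 : mm 0 288 m < 576 := lt0 (by norm_num) hm
  rw [mul0 h hs h4 (lt0 h4 h4), mul0 h hs h4 h4, mul0 h hs (by norm_num) hm, F_288] at h3
  set x := F z i j k l x₁ x₂ s m with hx'
  have h5 : s * x * (s * x) = 1 := by
    calc s * x * (s * x) = s * (x * s) * x := by group
      _ = (s * s) * (x * x) := by rw [hxs]; group
      _ = 1 := by rw [hs, hxx, one_mul]
  rwa [h5, mul_one] at h3

/-- Lemma B: `z` is weakly closed in `Q`. -/
theorem weak {g : G} (hg : g * z * g⁻¹ ∈ Q) : g * z * g⁻¹ = z := by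
  by_contra hne
  have zz := h.large.z_sq
  obtain ⟨hiQ, hjQ, hkQ, hlQ⟩ := gen_mem h
  have hsz := s_comm h hs
  -- we may assume `z ^ g = i k`
  obtain ⟨c, hcz, hc⟩ := exists_conj_ik h hs hg
    (by
      calc g * z * g⁻¹ * (g * z * g⁻¹) = g * (z * z) * g⁻¹ := by group
        _ = 1 := by rw [zz]; group)
    (fun he => h.large.z_ne (by
      have : z = g⁻¹ * (g * z * g⁻¹) * g := by group
      rw [this, he]; group)) hne
  have hikQ : i * k ∈ Q := mul_mem hiQ hkQ
  have hjlQ : j * l ∈ Q := mul_mem hjQ hlQ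
  have e1 : (c * g) * z * (c * g)⁻¹ = i * k := by
    calc (c * g) * z * (c * g)⁻¹ = c * (g * z * g⁻¹) * c⁻¹ := by group
      _ = i * k := by rw [hc]; group
  have hik : i * k ≠ z := (FS_ne h hs (Or.inl rfl)).2
  have hik1 : i * k ≠ 1 := (FS_ne h hs (Or.inl rfl)).1
  have hjl1 : j * l ≠ 1 := (FS_ne h hs (Or.inr (Or.inl rfl))).1
  have hne2 : i * k ≠ j * l := by
    intro he
    have h3 : F z i j k l x₁ x₂ s 5 = F z i j k l x₁ x₂ s 10 := by rw [F_5, F_10, he]
    have := F_inj h (by norm_num) (by norm_num) h3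
    omega
  obtain ⟨g', hg'⟩ : ∃ g', g' * z * g'⁻¹ = i * k := ⟨_, e1⟩
  clear e1 hc hcz c hne hg g
  have p := pair_of_conj h.large (g := g') (by rw [hg']; exact hikQ) (by rw [hg']; exact hik)
  rw [hg'] at p
  set A := Q.map (MulAut.conj g').toMonoidHom with hA
  set a := i * k with ha
  have hza : IsConj z a := isConj_iff.2 ⟨g', hg'⟩
  -- all involutions of `Q` and of `A` are conjugate to `z`
  have hQP : ∀ x ∈ Q, x * x = 1 → x ≠ 1 → IsConj z x := by
    intro x hx hxx hx1
    by_cases hxz : x = z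
    · rw [hxz]
    · obtain ⟨c, -, hc⟩ := exists_conj_ik h hs hx hxx hx1 hxz
      have h1 : IsConj x a := isConj_iff.2 ⟨c, by rw [hc, mul_inv_cancel_right]⟩
      exact hza.trans h1.symm
  have hAP : ∀ x ∈ A, x * x = 1 → x ≠ 1 → IsConj z x := by
    rintro _ ⟨x, hx, rfl⟩ hxx hx1
    have h1 : IsConj x (g' * x * g'⁻¹) := isConj_iff.2 ⟨g', rfl⟩
    have hxx' : g' * x * g'⁻¹ * (g' * x * g'⁻¹) = 1 := hxx
    have hx1' : g' * x * g'⁻¹ ≠ 1 := hx1
    have h2 : x * x = 1 := by
      calc x * x = g'⁻¹ * (g' * x * g'⁻¹ * (g' * x * g'⁻¹)) * g' := by group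
        _ = 1 := by rw [hxx']; group
    have h3 : x ≠ 1 := by rintro rfl; exact hx1' (by group)
    exact (hQP x hx h2 h3).trans h1
  -- `j l ∉ A`
  have hjl : j * l ∉ A := by
    intro hmem
    have hi : p.lz.b (p.lz.pr ⟨i, hiQ⟩) (p.lz.pr ⟨a, p.a_mem⟩) = 0 := by
      rw [p.lz.b_pr]
      change i * (i * k) = i * k * i
      rw [mul_assoc, h.ki]
    have hi2 : p.lz.b (p.lz.pr ⟨i, hiQ⟩) (p.lz.pr ⟨j * l, hjlQ⟩) = 1 := by
      rw [p.lz.b_pr_one]
      change i * (j * l) = j * l * i * z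
      have e1 : j * l * i * z = j * i * l * z := by
        calc j * l * i * z = j * (l * i) * z := by group
          _ = j * (i * l) * z := by rw [h.li]
          _ = j * i * l * z := by group
      rw [e1, h.ji]
      calc i * (j * l) = i * j * l := by group
        _ = i * j * (l * (z * z)) := by rw [zz, mul_one]
        _ = i * j * (l * z * z) := by group
        _ = i * j * (z * l * z) := by rw [h.large.comm_z l hlQ]
        _ = i * j * z * l * z := by group
    obtain ⟨x, hxA, hxz, hx⟩ := p.exists_transvection (p.lz.b (p.lz.pr ⟨i, hiQ⟩)) hi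
    have h1 := (hx (j * l) hjlQ hmem).2 hi2
    have hxa : x * a = a * x := p.la.comm_z x hxA
    have h2 : x * (j * l) = j * l * a * x := by rw [← h1]; group
    rcases stab h hs (Or.inl rfl) (Or.inr (Or.inl rfl)) hne2 hxz hxa with h3 | h3
    · rw [h2] at h3
      have h4 : j * l * a = j * l := mul_right_cancel h3
      exact hik1 (mul_eq_left.1 h4)
    · rw [h2] at h3
      have h4 : j * l * a = j * l * z := mul_right_cancel h3
      exact hik (mul_left_cancel h4)
  -- commuting relations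
  have sa : s * a = a * s := by
    have h3 := (eq_iff h hs (m := 288) (n := 5) (m' := 5) (n' := 288) (by norm_num) (by norm_num)
      (by norm_num) (by norm_num)).2 (by decide +kernel)
    rwa [F_5, F_288] at h3
  have sjl : s * (j * l) = j * l * s := by
    have h3 := (eq_iff h hs (m := 288) (n := 10) (m' := 10) (n' := 288) (by norm_num) (by norm_num)
      (by norm_num) (by norm_num)).2 (by decide +kernel)
    rwa [F_10, F_288] at h3
  have ajl : a * (j * l) = j * l * a := by
    have h3 := (eq_iff h hs (m := 5) (n := 10) (m' := 10) (n' := 5) (by norm_num) (by norm_num)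
      (by norm_num) (by norm_num)).2 (by decide +kernel)
    rwa [F_10, F_5] at h3
  have jl2 : j * l * (j * l) = 1 := by
    have h3 := (sq_iff h hs (m := 10) (by norm_num)).2 (by decide +kernel)
    rwa [F_10] at h3
  have hs1 : s ≠ 1 := by
    rintro rfl
    exact s_notMem h hs (one_mem Q)
  have hsQ := s_notMem h hs
  -- `s ∈ A` or `s j l ∈ A`
  have hor : s ∈ A ∨ s * (j * l) ∈ A := by
    by_cases hsA : s ∈ A
    · exact Or.inl hsA
    · right
      have H := conj h g'
      rw [hg'] at H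
      have hss : g' * s * g'⁻¹ * (g' * s * g'⁻¹) = 1 := by
        calc g' * s * g'⁻¹ * (g' * s * g'⁻¹) = g' * (s * s) * g'⁻¹ := by group
          _ = 1 := by rw [hs]; group
      obtain ⟨i', j', k', l', x₁', x₂', K⟩ := exists_frame H hss sa hs hsA
      exact mul_mem_of_comm K hs ajl.symm jl2 hjl sjl.symm
  obtain ⟨α, hαQ, hαz, hαf, -, hαs⟩ := exists_alpha h hs (f := j * l) (Or.inr (Or.inl rfl))
  have zA : z ∈ A := p.z_mem
  rcases hor with hsA | hsA
  · refine not_both h hs (hAP s hsA hs hs1) (hAP (z * s) (mul_mem zA hsA) ?_ ?_)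
    · calc z * s * (z * s) = z * (s * z) * s := by group
        _ = (z * z) * (s * s) := by rw [hsz]; group
        _ = 1 := by rw [zz, hs, one_mul]
    · intro he
      apply hsQ
      rw [← inv_eq_of_mul_eq_one_right he, h.large.z_inv]
      exact h.large.z_mem
  · have jlz : j * l * z = z * (j * l) := h.large.comm_z _ hjlQ
    have hw2 : s * (j * l) * (s * (j * l)) = 1 := by
      calc s * (j * l) * (s * (j * l)) = s * (j * l * s) * (j * l) := by group
        _ = s * (s * (j * l)) * (j * l) := by rw [sjl]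
        _ = (s * s) * (j * l * (j * l)) := by group
        _ = 1 := by rw [hs, jl2, one_mul]
    have hw1 : s * (j * l) ≠ 1 := by
      intro he
      apply hsQ
      rw [← inv_eq_of_mul_eq_one_left he]
      exact inv_mem hjlQ
    have hzw : z * (s * (j * l)) = s * (j * l) * z := by
      calc z * (s * (j * l)) = (z * s) * (j * l) := by group
        _ = (s * z) * (j * l) := by rw [hsz]
        _ = s * (z * (j * l)) := by group
        _ = s * (j * l) * z := by rw [← jlz]; group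
    have hP1 := hAP _ hsA hw2 hw1
    have hP2 := hAP _ (mul_mem zA hsA) (by
      calc z * (s * (j * l)) * (z * (s * (j * l))) = z * (s * (j * l)) * (s * (j * l) * z) := by
            rw [hzw]
        _ = z * (s * (j * l) * (s * (j * l))) * z := by group
        _ = 1 := by rw [hw2, mul_one, zz]) (by
      intro he
      apply hsQ
      have h5 : s = z * (z * (s * (j * l))) * (j * l) := by
        calc s = s * (j * l * (j * l)) := by rw [jl2, mul_one]
          _ = (z * z) * s * (j * l * (j * l)) := by rw [zz, one_mul]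
          _ = _ := by group
      rw [h5, he, mul_one]
      exact mul_mem h.large.z_mem hjlQ)
    -- `s ~ z s j l`, `z s ~ s j l`
    have c1 : IsConj s (z * (s * (j * l))) := isConj_iff.2 ⟨α, by
      rw [hαs, mul_inv_cancel_right]
      rw [mul_assoc, sjl]⟩
    have c2 : IsConj (z * s) (s * (j * l)) := isConj_iff.2 ⟨α, by
      calc α * (z * s) * α⁻¹ = (α * z) * s * α⁻¹ := by group
        _ = z * (α * s) * α⁻¹ := by rw [hαz]; group
        _ = z * (z * (j * l) * s) := by rw [hαs]; group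
        _ = (z * z) * (j * l * s) := by group
        _ = s * (j * l) := by rw [zz, one_mul, sjl]⟩
    exact not_both h hs (hP2.trans c1.symm) (hP1.trans c2.symm)

end split

/-! ### the twisted case `s² = z` -/

theorem twisted_weak (h : Case9a Q z i j k l x₁ x₂ s) (hs : s * s = z) {g : G}
    (hg : g * z * g⁻¹ ∈ Q) : g * z * g⁻¹ = z := by
  by_contra hne
  have zz := h.large.z_sq
  have p := pair_of_conj h.large hg hne
  have H := conj h g
  set A := Q.map (MulAut.conj g).toMonoidHom with hA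
  set a := g * z * g⁻¹ with ha
  have hs' : g * s * g⁻¹ * (g * s * g⁻¹) =
      L a (g * i * g⁻¹) (g * j * g⁻¹) (g * k * g⁻¹) (g * l * g⁻¹) 16 := by
    rw [L_16, ha, ← hs]; group
  -- `z` is conjugate to `i' k'` in `C(a)`
  obtain ⟨m, hm, hmz⟩ := exists_code H (H.large.comm_z z p.z_mem)
  have hmQ : m < 32 := (mem_Q_iff H hm).1 (by rw [hmz]; exact p.z_mem)
  have h0 : m ≠ 0 := by rintro rfl; rw [F_0] at hmz; exact h.large.z_ne hmz.symm
  have h16 : m ≠ 16 := by rintro rfl; rw [F_16] at hmz; exact hne hmz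
  have hmm : mm 16 m m = 0 := by
    apply F_inj H (mm_lt (Or.inr rfl) hm hm) (by norm_num)
    rw [F_mul H (Or.inr rfl) hs' hm hm, F_0, hmz, zz]
  obtain ⟨c, hc, h2⟩ := f_conj' m hmQ h0 h16 hmm
  have h3 := congrArg (F a (g * i * g⁻¹) (g * j * g⁻¹) (g * k * g⁻¹) (g * l * g⁻¹) (g * x₁ * g⁻¹)
    (g * x₂ * g⁻¹) (g * s * g⁻¹)) h2
  rw [F_mul H (Or.inr rfl) hs' hc hm, F_mul H (Or.inr rfl) hs' (by norm_num) hc, F_5, hmz] at h3
  set c' := F a (g * i * g⁻¹) (g * j * g⁻¹) (g * k * g⁻¹) (g * l * g⁻¹) (g * x₁ * g⁻¹)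
    (g * x₂ * g⁻¹) (g * s * g⁻¹) c with hc'
  have hca : c'⁻¹ * a = a * c'⁻¹ := (show Commute c' a from F_comm H hc).inv_left.eq
  have K := conj_cent H hca
  have hz : c'⁻¹ * (g * i * g⁻¹) * c'⁻¹⁻¹ * (c'⁻¹ * (g * k * g⁻¹) * c'⁻¹⁻¹) = z := by
    calc _ = c'⁻¹ * (g * i * g⁻¹ * (g * k * g⁻¹) * c') := by group
      _ = z := by rw [← h3]; group
  generalize c'⁻¹ * (g * i * g⁻¹) * c'⁻¹⁻¹ = i' at K hz
  generalize c'⁻¹ * (g * j * g⁻¹) * c'⁻¹⁻¹ = j' at K
  generalize c'⁻¹ * (g * k * g⁻¹) * c'⁻¹⁻¹ = k' at K hz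
  generalize c'⁻¹ * (g * l * g⁻¹) * c'⁻¹⁻¹ = l' at K
  generalize c'⁻¹ * (g * x₁ * g⁻¹) * c'⁻¹⁻¹ = x₁' at K
  generalize c'⁻¹ * (g * x₂ * g⁻¹) * c'⁻¹⁻¹ = x₂' at K
  generalize c'⁻¹ * (g * s * g⁻¹) * c'⁻¹⁻¹ = s' at K
  have hmemA : ∀ n < 32, L a i' j' k' l' n ∈ A := by
    intro n hn
    have := (mem_Q_iff K (m := n) (by omega)).2 hn
    rwa [F_lt hn] at this
  have hz5 : L a i' j' k' l' 5 = z := by rw [L_5, hz]
  have hcz : ∀ n < 32, qm n 5 = qm 5 n → L a i' j' k' l' n * z = z * L a i' j' k' l' n := by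
    intro n hn hq
    rw [← hz5, ← L_mul K.toPlus hn (by norm_num), ← L_mul K.toPlus (by norm_num) hn, hq]
  have hsq : ∀ n < 32, qm n n = 0 → L a i' j' k' l' n * L a i' j' k' l' n = 1 := by
    intro n hn hq
    rw [← L_mul K.toPlus hn hn, hq, L_0]
  have h10 := twisted_mem h hs (hcz 10 (by norm_num) (by decide +kernel))
    (hsq 10 (by norm_num) (by decide +kernel))
  have h11 := twisted_mem h hs (hcz 11 (by norm_num) (by decide +kernel))
    (hsq 11 (by norm_num) (by decide +kernel))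
  have hcomm := p.comm_D h10 (hmemA 10 (by norm_num)) h11 (hmemA 11 (by norm_num))
  rw [← L_mul K.toPlus (by norm_num) (by norm_num), ← L_mul K.toPlus (by norm_num) (by norm_num)] at hcomm
  have h1 : F a i' j' k' l' x₁' x₂' s' (qm 10 11) = F a i' j' k' l' x₁' x₂' s' (qm 11 10) := by
    have e1 : qm 10 11 < 32 := by decide +kernel
    have e2 : qm 11 10 < 32 := by decide +kernel
    rw [F_lt e1, F_lt e2, hcomm]
  have h2 := F_inj K (by decide +kernel) (by decide +kernel) h1
  revert h2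
  decide +kernel

theorem split_of_simple [IsSimpleGroup G] (hc : ¬ IsMulCommutative G)
    (h : Case9a Q z i j k l x₁ x₂ s) : s * s = 1 := by
  rcases h.ss with hs | hs
  · exact hs
  · exfalso
    obtain ⟨g, hg1, hg2⟩ := Cfsg.Agent.StandardComponent.AltFinal.exists_conj hc
      (orderOf_z h.large)
    have zz := h.large.z_sq
    have h1 : g * z * g⁻¹ ∈ Q := by
      refine twisted_mem h hs hg2 ?_
      calc g * z * g⁻¹ * (g * z * g⁻¹) = g * (z * z) * g⁻¹ := by group
        _ = 1 := by rw [zz]; group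
    exact hg1 (twisted_weak h hs h1)

end Cfsg.Agent.SmallExtra438.NineAWeak
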