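import Cfsg.Agent.SmallExtra438.ClassA

/-!
# S1759, case `9aa`, case II: `z` is conjugate to some `a ∈ Q`, `a ≠ z` (helper438)

* `twist_two` : the twist is `4`, `5` or `6` (helper465: `z` and `a` have the same number of square roots in
  `C_G(z) ∩ C_G(a)`);
* `swap` : the frame change `k ↔ l`, `s → y s`, which turns the twist `(a, b, c)` into `(a, a + b + c, c)`;
* `exists_frame` : after a frame change the twist is `4` or `5`.
-/

set_option autoImplicit false

namespace Cfsg.Agent.SmallExtra438.TwistA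

open Cfsg.Agent.LargeExtra.W2 Cfsg.Agent.SmallExtra438.ModelA Cfsg.Agent.SmallExtra438.FrameA
open Cfsg.Agent.SmallExtra438.ClassA Cfsg.Agent.Co2Type.Quad Cfsg.Agent.LargeExtra.Base

section

variable {G : Type*} [Group G] [Finite G] {Q : Subgroup G} {z i j k l x₁ x₂ y s : G}

/-- the codes of the square roots of `F w` in `C_G(z) ∩ C_G(i k)` -/
def rts (t w : ℕ) : Finset ℕ := (Finset.range 1152).filter (fun m => mm t m 5 = mm t 5 m ∧ mm t m m = w)

theorem rts_card : ∀ t < 8, (rts t 16).card = (rts t 5).card → t = 4 ∨ t = 5 ∨ t = 6 := by decide +kernel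

variable (h : Case9aa Q z i j k l x₁ x₂ y s)
include h

theorem card_rts {t : ℕ} (ht : Tw t z y s) {w : ℕ} (hw : w < 1152) :
    Nat.card {x : G // x * z = z * x ∧ x * (i * k) = i * k * x ∧ x * x = F z i j k l x₁ x₂ y s w} =
      (rts t w).card := by
  rw [← Fintype.card_coe, ← Nat.card_eq_fintype_card]
  symm
  have hm : ∀ m : rts t w, (m : ℕ) < 1152 ∧ mm t m 5 = mm t 5 m ∧ mm t m m = w := by
    rintro ⟨m, hm⟩
    rw [rts, Finset.mem_filter, Finset.mem_range] at hm
    exact hm
  let f : rts t w → {x : G // x * z = z * x ∧ x * (i * k) = i * k * x ∧ x * x = F z i j k l x₁ x₂ y s w} :=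
    fun m => ⟨F z i j k l x₁ x₂ y s m, F_comm h _, by
      have h1 := (comm_iff h ht (hm m).1 (n := 5) (by norm_num)).2 (hm m).2.1
      rwa [F_5] at h1, (mul_eq_iff h ht (hm m).1 (hm m).1 hw).2 (hm m).2.2⟩
  apply Nat.card_eq_of_bijective f
  constructor
  · intro m n hmn
    exact Subtype.ext (F_inj h (hm m).1 (hm n).1 (congrArg Subtype.val hmn))
  · rintro ⟨x, hx1, hx2, hx3⟩
    obtain ⟨m, hm, rfl⟩ := exists_code h hx1
    rw [← F_5 (z := z) (i := i) (j := j) (k := k) (l := l) (x₁ := x₁) (x₂ := x₂) (y := y) (s := s)] at hx2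
    refine ⟨⟨m, ?_⟩, rfl⟩
    rw [rts, Finset.mem_filter, Finset.mem_range]
    exact ⟨hm, (comm_iff h ht hm (by norm_num)).1 hx2, (mul_eq_iff h ht hm hm hw).1 hx3⟩

/-- in case II we may take `a = i k` -/
theorem exists_pair {g : G} (hg : g * z * g⁻¹ ∈ Q) (hne : g * z * g⁻¹ ≠ z) :
    ∃ A : Subgroup G, Pair Q z A (i * k) := by
  have zz := h.large.z_sq
  obtain ⟨c, hcz, hc⟩ := exists_conj_ik h hg
    (by
      calc g * z * g⁻¹ * (g * z * g⁻¹) = g * (z * z) * g⁻¹ := by group
        _ = 1 := by rw [zz]; group)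
    (fun he => h.large.z_ne (by
      have : z = g⁻¹ * (g * z * g⁻¹) * g := by group
      rw [this, he]; group)) hne
  have hmem : ∀ g ∈ ({i, j, k, l} : Set G), g ∈ Q := fun g hg => h.gen ▸ Subgroup.subset_closure hg
  have e1 : (c * g) * z * (c * g)⁻¹ = i * k := by
    calc (c * g) * z * (c * g)⁻¹ = c * (g * z * g⁻¹) * c⁻¹ := by group
      _ = i * k := hc
  have hik : i * k ≠ z := by
    intro he
    have h3 : F z i j k l x₁ x₂ y s 5 = F z i j k l x₁ x₂ y s 16 := by rw [F_5, F_16, he]
    have := F_inj h (by norm_num) (by norm_num) h3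
    omega
  have p := pair_of_conj h.large (g := c * g) (by
    rw [e1]; exact Q.mul_mem (hmem _ (by simp)) (hmem _ (by simp))) (by rw [e1]; exact hik)
  rw [e1] at p
  exact ⟨_, p⟩

/-- **Case II: the twist.** -/
theorem twist_two {t : ℕ} (ht8 : t < 8) (ht : Tw t z y s) {g : G} (hg : g * z * g⁻¹ ∈ Q)
    (hne : g * z * g⁻¹ ≠ z) : t = 4 ∨ t = 5 ∨ t = 6 := by
  obtain ⟨A, p⟩ := exists_pair h hg hne
  obtain ⟨u, hu1, hu2, -, -⟩ := p.isConj
  apply rts_card t ht8
  rw [← card_rts h ht (by norm_num), ← card_rts h ht (by norm_num)]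
  rw [F_16, F_5]
  have key : ∀ v a b : G, v * a * v⁻¹ = b → ∀ x : G, x * a = a * x → (v * x * v⁻¹) * b = b * (v * x * v⁻¹) := by
    intro v a b hv x hx
    rw [← hv]
    calc v * x * v⁻¹ * (v * a * v⁻¹) = v * (x * a) * v⁻¹ := by group
      _ = v * (a * x) * v⁻¹ := by rw [hx]
      _ = _ := by group
  have key2 : ∀ v a b : G, v * a * v⁻¹ = b → v⁻¹ * b * v⁻¹⁻¹ = a := by
    intro v a b hv
    rw [← hv]; group
  have key3 : ∀ v a b : G, v * a * v⁻¹ = b → ∀ x : G, x * x = a → (v * x * v⁻¹) * (v * x * v⁻¹) = b := by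
    intro v a b hv x hx
    rw [← hv, ← hx]; group
  apply Nat.card_congr
  refine
    { toFun := fun x => ⟨u * x.1 * u⁻¹, key _ _ _ hu2 _ x.2.2.1, key _ _ _ hu1 _ x.2.1, key3 _ _ _ hu1 _ x.2.2.2⟩
      invFun := fun x => ⟨u⁻¹ * x.1 * u⁻¹⁻¹, key _ _ _ (key2 _ _ _ hu1) _ x.2.2.1,
        key _ _ _ (key2 _ _ _ hu2) _ x.2.1, key3 _ _ _ (key2 _ _ _ hu1) _ x.2.2.2⟩
      left_inv := fun x => Subtype.ext (by show u⁻¹ * (u * x.1 * u⁻¹) * u⁻¹⁻¹ = x.1; group)
      right_inv := fun x => Subtype.ext (by show u * (u⁻¹ * x.1 * u⁻¹⁻¹) * u⁻¹ = x.1; group) }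

end

/-! ### the frame change -/

section

variable {G : Type*} [Group G] {Q : Subgroup G} {z i j k l x₁ x₂ y s : G}

theorem cmul (c a b : G) : c * (a * b) * c⁻¹ = c * a * c⁻¹ * (c * b * c⁻¹) := by group

/-- the frame change `k ↔ l` (up to `z`), `s → y s` -/
theorem swap (h : Case9aa Q z i j k l x₁ x₂ y s) : Case9aa Q z i j (l * z) (k * z) x₁ x₂⁻¹ y (y * s) := by
  have zz := h.large.z_sq
  have hmem : ∀ g ∈ ({i, j, k, l} : Set G), g ∈ Q := fun g hg => h.gen ▸ Subgroup.subset_closure hg
  have hi := h.large.comm_z i (hmem _ (by simp))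
  have hj := h.large.comm_z j (hmem _ (by simp))
  have hk := h.large.comm_z k (hmem _ (by simp))
  have hl := h.large.comm_z l (hmem _ (by simp))
  have zz' : ∀ x, z * (z * x) = x := fun x => by rw [← mul_assoc, zz, one_mul]
  have hz1 := h.x₁_act.z
  have hz2 := h.x₂_act.z
  have hzy := h.y_act.z
  have hzs := h.s_act.z
  have hyz : y * z = z * y := (zy h).eq
  have hsz : s * z = z * s := (zs h).eq
  -- the inverse of `x₂`
  have hx2 : ∀ a b : G, x₂ * a * x₂⁻¹ = b → x₂⁻¹ * b * x₂⁻¹⁻¹ = a := by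
    intro a b hab; rw [← hab]; group
  have hkl : x₂ * (k * l) * x₂⁻¹ = k := by
    rw [cmul, h.x₂_act.k, h.x₂_act.l, ← mul_assoc, h.lk]
    calc k * l * z * l = k * (l * z) * l := by group
      _ = k * (z * l) * l := by rw [hl]
      _ = k * z * (l * l) := by group
      _ = k * (z * z) := by rw [h.ll]; group
      _ = k := by rw [zz, mul_one]
  have g1 : x₂⁻¹ * l * x₂⁻¹⁻¹ = k := hx2 _ _ h.x₂_act.k
  have g2 : x₂⁻¹ * k * x₂⁻¹⁻¹ = k * l := hx2 _ _ hkl
  have g3 : x₂⁻¹ * i * x₂⁻¹⁻¹ = i := hx2 _ _ h.x₂_act.i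
  have g4 : x₂⁻¹ * j * x₂⁻¹⁻¹ = j := hx2 _ _ h.x₂_act.j
  have g5 : x₂⁻¹ * z * x₂⁻¹⁻¹ = z := hx2 _ _ hz2
  have cys : ∀ a : G, y * s * a * (y * s)⁻¹ = y * (s * a * s⁻¹) * y⁻¹ := fun a => by group
  have hsy : s * y * s⁻¹ = y ∨ s * y * s⁻¹ = y * z := h.ys
  have hcl : ∀ (K : Subgroup G), z ∈ K → ∀ g, g * z ∈ K → g ∈ K := by
    intro K hzK g hg
    have : g = (g * z) * z := by rw [mul_assoc, zz, mul_one]
    rw [this]
    exact K.mul_mem hg hzK
  refine
    { large := h.large
      card := h.card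
      gen := ?_
      ii := h.ii
      jj := h.jj
      kk := ?_
      ll := ?_
      ji := h.ji
      lk := ?_
      ki := ?_
      li := ?_
      kj := ?_
      lj := ?_
      x₁3 := h.x₁3
      x₂3 := ?_
      x₁_act := ⟨hz1, h.x₁_act.i, h.x₁_act.j, ?_, ?_⟩
      x₂_act := ⟨g5, g3, g4, ?_, ?_⟩
      y_act := ⟨hzy, h.y_act.i, h.y_act.j, ?_, ?_⟩
      s_act := ⟨?_, ?_, ?_, ?_, ?_⟩
      xx := ?_
      y1 := h.y1
      y2 := ?_
      s1 := ?_
      s2 := ?_
      yy := h.yy
      ss := ?_
      ys := ?_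
      cent := ?_
      card_cent := h.card_cent }
  · -- gen
    apply le_antisymm
    · conv_lhs => rw [h.gen]
      rw [Subgroup.closure_le]
      have hzc : z ∈ Subgroup.closure ({i, j, l * z, k * z} : Set G) := by
        rw [← h.ii]
        exact Subgroup.mul_mem _ (Subgroup.subset_closure (by simp)) (Subgroup.subset_closure (by simp))
      rintro g hg
      simp only [Set.mem_insert_iff, Set.mem_singleton_iff] at hg
      rcases hg with rfl | rfl | rfl | rfl
      · exact Subgroup.subset_closure (by simp)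
      · exact Subgroup.subset_closure (by simp)
      · exact hcl _ hzc _ (Subgroup.subset_closure (by simp))
      · exact hcl _ hzc _ (Subgroup.subset_closure (by simp))
    · rw [Subgroup.closure_le]
      rintro g hg
      simp only [Set.mem_insert_iff, Set.mem_singleton_iff] at hg
      rcases hg with rfl | rfl | rfl | rfl
      · exact hmem _ (by simp)
      · exact hmem _ (by simp)
      · exact Q.mul_mem (hmem _ (by simp)) h.large.z_mem
      · exact Q.mul_mem (hmem _ (by simp)) h.large.z_mem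
  · -- kk
    calc l * z * (l * z) = l * (z * l) * z := by group
      _ = (l * l) * (z * z) := by rw [← hl]; group
      _ = z := by rw [h.ll, zz, mul_one]
  · calc k * z * (k * z) = k * (z * k) * z := by group
      _ = (k * k) * (z * z) := by rw [← hk]; group
      _ = z := by rw [h.kk, zz, mul_one]
  · -- lk
    calc k * z * (l * z) = k * (z * l) * z := by group
      _ = (k * l) * (z * z) := by rw [← hl]; group
      _ = k * l := by rw [zz, mul_one]
      _ = (l * k) * (z * z) * z := by rw [h.lk, zz, mul_one, mul_assoc, zz, mul_one]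
      _ = l * (k * z) * z * z := by group
      _ = l * (z * k) * z * z := by rw [hk]
      _ = l * z * (k * z) * z := by group
  · -- ki
    calc l * z * i = l * (z * i) := by group
      _ = (l * i) * z := by rw [← hi]; group
      _ = i * (l * z) := by rw [h.li]; group
  · calc k * z * i = k * (z * i) := by group
      _ = (k * i) * z := by rw [← hi]; group
      _ = i * (k * z) := by rw [h.ki]; group
  · calc l * z * j = l * (z * j) := by group
      _ = (l * j) * z := by rw [← hj]; group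
      _ = j * (l * z) := by rw [h.lj]; group
  · calc k * z * j = k * (z * j) := by group
      _ = (k * j) * z := by rw [← hj]; group
      _ = j * (k * z) := by rw [h.kj]; group
  · rw [inv_pow, h.x₂3, inv_one]
  · rw [cmul, h.x₁_act.l, hz1]
  · rw [cmul, h.x₁_act.k, hz1]
  · rw [cmul, g1, g5]
  · rw [cmul, g2, g5]
    calc k * l * z = l * k := by rw [h.lk]
      _ = l * (k * (z * z)) := by rw [zz, mul_one]
      _ = l * (k * z) * z := by group
      _ = l * (z * k) * z := by rw [hk]
      _ = l * z * (k * z) := by group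
  · rw [cmul, h.y_act.l, hzy]
  · rw [cmul, h.y_act.k, hzy]
  · rw [cys, hzs, hzy]
  · rw [cys, h.s_act.i, h.y_act.k]
  · rw [cys, h.s_act.j, h.y_act.l]
  · rw [cys, cmul s l z, h.s_act.l, hzs, cmul, h.y_act.j, hzy, mul_assoc, zz, mul_one]
  · rw [cys, cmul s k z, h.s_act.k, hzs, cmul, h.y_act.i, hzy, mul_assoc, zz, mul_one]
  · exact ((show Commute x₁ x₂ from h.xx).inv_right).eq
  · rw [← conj_inv, h.y2]
  · rw [cys, h.s1, h.y2]
  · rw [cys, ← conj_inv, h.s2, ← conj_inv, h.y1, inv_inv]
  · -- ss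
    have e1 : y * s * (y * s) = y * (s * y * s⁻¹) * (s * s) := by group
    rw [e1]
    rcases hsy with e2 | e2 <;> rcases h.yy with e3 | e3 <;> rcases h.ss with e4 | e4 <;> rw [e2, e4]
    · left; rw [e3, mul_one]
    · right; rw [e3, one_mul]
    · right; rw [e3, mul_one]
    · left; rw [e3, zz]
    · right; rw [← mul_assoc, e3, one_mul, mul_one]
    · left; rw [← mul_assoc, e3, one_mul, zz]
    · left; rw [← mul_assoc, e3, zz, mul_one]
    · right; rw [← mul_assoc, e3, zz, one_mul]
  · -- ys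
    rw [cys]
    rcases hsy with e2 | e2
    · left; rw [e2]; group
    · right; rw [e2, cmul, hzy]; group
  · -- cent
    rw [h.cent]
    have hzc : z ∈ Subgroup.closure ({i, j, l * z, k * z, x₁, x₂⁻¹, y, y * s} : Set G) := by
      rw [← h.ii]
      exact Subgroup.mul_mem _ (Subgroup.subset_closure (by simp)) (Subgroup.subset_closure (by simp))
    have hzc' : z ∈ Subgroup.closure ({i, j, k, l, x₁, x₂, y, s} : Set G) := by
      rw [← h.ii]
      exact Subgroup.mul_mem _ (Subgroup.subset_closure (by simp)) (Subgroup.subset_closure (by simp))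
    apply le_antisymm
    · rw [Subgroup.closure_le]
      rintro g hg
      simp only [Set.mem_insert_iff, Set.mem_singleton_iff] at hg
      rcases hg with rfl | rfl | rfl | rfl | rfl | rfl | rfl | rfl
      · exact Subgroup.subset_closure (by simp)
      · exact Subgroup.subset_closure (by simp)
      · exact hcl _ hzc _ (Subgroup.subset_closure (by simp))
      · exact hcl _ hzc _ (Subgroup.subset_closure (by simp))
      · exact Subgroup.subset_closure (by simp)
      · rw [← inv_inv g]
        exact Subgroup.inv_mem _ (Subgroup.subset_closure (by simp))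
      · exact Subgroup.subset_closure (by simp)
      · have : g = y⁻¹ * (y * g) := by group
        rw [this]
        exact Subgroup.mul_mem _ (Subgroup.inv_mem _ (Subgroup.subset_closure (by simp)))
          (Subgroup.subset_closure (by simp))
    · rw [Subgroup.closure_le]
      rintro g hg
      simp only [Set.mem_insert_iff, Set.mem_singleton_iff] at hg
      rcases hg with rfl | rfl | rfl | rfl | rfl | rfl | rfl | rfl
      · exact Subgroup.subset_closure (by simp)
      · exact Subgroup.subset_closure (by simp)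
      · exact Subgroup.mul_mem _ (Subgroup.subset_closure (by simp)) hzc'
      · exact Subgroup.mul_mem _ (Subgroup.subset_closure (by simp)) hzc'
      · exact Subgroup.subset_closure (by simp)
      · exact Subgroup.inv_mem _ (Subgroup.subset_closure (by simp))
      · exact Subgroup.subset_closure (by simp)
      · exact Subgroup.mul_mem _ (Subgroup.subset_closure (by simp)) (Subgroup.subset_closure (by simp))

theorem swap_tw (h : Case9aa Q z i j k l x₁ x₂ y s) (ht : Tw 6 z y s) : Tw 4 z y (y * s) := by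
  have zz := h.large.z_sq
  have h1 : y * y = 1 := by simpa using ht.yy
  have h2 : s * s = z := by simpa using ht.ss
  have h3 : s * y * s⁻¹ = y * z := by simpa using ht.sy
  have hzy := h.y_act.z
  refine ⟨by simpa using h1, ?_, ?_⟩
  · have e1 : y * s * (y * s) = y * (s * y * s⁻¹) * (s * s) := by group
    rw [e1, h3, h2, ← mul_assoc, h1, one_mul, zz]
    simp
  · have e1 : y * s * y * (y * s)⁻¹ = y * (s * y * s⁻¹) * y⁻¹ := by group
    rw [e1, h3, cmul, hzy]
    simp

/-- **Case II: after a frame change the twist is `4` or `5`.** -/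
theorem exists_frame [Finite G] (h : Case9aa Q z i j k l x₁ x₂ y s) {g : G} (hg : g * z * g⁻¹ ∈ Q)
    (hne : g * z * g⁻¹ ≠ z) :
    ∃ k' l' x₂' s', Case9aa Q z i j k' l' x₁ x₂' y s' ∧ (Tw 4 z y s' ∨ Tw 5 z y s') := by
  obtain ⟨t, ht8, ht⟩ := exists_tw h
  rcases twist_two h ht8 ht hg hne with rfl | rfl | rfl
  · exact ⟨_, _, _, _, h, Or.inl ht⟩
  · exact ⟨_, _, _, _, h, Or.inr ht⟩
  · exact ⟨_, _, _, _, swap h, Or.inl (swap_tw h ht)⟩

end

end Cfsg.Agent.SmallExtra438.TwistA
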